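import Mathlib.LinearAlgebra.Matrix.GeneralLinearGroup.Defs
import Mathlib.LinearAlgebra.Matrix.Adjugate
import Mathlib.Tactic

/-!
Products of two conjugates of an elliptic element of `GL₂`.
-/

set_option autoImplicit false

namespace CfsgLib.OreG2

open Matrix

variable {F : Type*} [Field F]

/-- Not a scalar matrix. -/
def NS (M : Matrix (Fin 2) (Fin 2) F) : Prop :=
  M 0 1 ≠ 0 ∨ M 1 0 ≠ 0 ∨ M 0 0 ≠ M 1 1

theorem not_NS {M : Matrix (Fin 2) (Fin 2) F} (h : ¬ NS M) : M = M 0 0 • 1 := by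
  simp only [NS, not_or, not_ne_iff] at h
  ext i j
  fin_cases i <;> fin_cases j <;> simp [h.1, h.2.1, h.2.2]

theorem exists_companion {M : Matrix (Fin 2) (Fin 2) F} (h : NS M) :
    ∃ P : Matrix (Fin 2) (Fin 2) F, P.det ≠ 0 ∧ M * P = P * !![0, -M.det; 1, M.trace] := by
  have key : ∀ x y : F, x * (M 1 0 * x + M 1 1 * y) - (M 0 0 * x + M 0 1 * y) * y ≠ 0 →
      ∃ P : Matrix (Fin 2) (Fin 2) F, P.det ≠ 0 ∧ M * P = P * !![0, -M.det; 1, M.trace] := by
    intro x y hxy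
    refine ⟨!![x, M 0 0 * x + M 0 1 * y; y, M 1 0 * x + M 1 1 * y], ?_, ?_⟩
    · rw [Matrix.det_fin_two_of]; exact hxy
    · ext i j
      fin_cases i <;> fin_cases j <;>
        simp [Matrix.mul_apply, Fin.sum_univ_two, Matrix.det_fin_two, Matrix.trace_fin_two] <;> ring
  by_cases h10 : M 1 0 = 0
  · by_cases h01 : M 0 1 = 0
    · refine key 1 1 fun e => ?_
      rcases h with h | h | h
      · exact h h01
      · exact h h10
      · rw [h10, h01] at e
        exact h (by linear_combination -e)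
    · exact key 0 1 fun e => h01 (by linear_combination -e)
  · exact key 1 0 fun e => h10 (by linear_combination e)

/-- Two non-scalar matrices with the same trace and determinant are conjugate. -/
theorem exists_conj_of_eq {M M' : Matrix (Fin 2) (Fin 2) F} (h : NS M) (h' : NS M')
    (ht : M.trace = M'.trace) (hd : M.det = M'.det) :
    ∃ P : Matrix (Fin 2) (Fin 2) F, P.det ≠ 0 ∧ M * P = P * M' := by
  obtain ⟨P, hP, e⟩ := exists_companion h
  obtain ⟨Q, hQ, e'⟩ := exists_companion h'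
  rw [ht, hd] at e
  set C : Matrix (Fin 2) (Fin 2) F := !![0, -M'.det; 1, M'.trace]
  have hQu : IsUnit Q.det := isUnit_iff_ne_zero.mpr hQ
  refine ⟨P * Q⁻¹, by rw [Matrix.det_mul, Matrix.det_nonsing_inv]; simp [hP, hQ], ?_⟩
  have e2 : C * Q⁻¹ = Q⁻¹ * M' := by
    calc C * Q⁻¹ = Q⁻¹ * (Q * C) * Q⁻¹ := by
          rw [← Matrix.mul_assoc Q⁻¹, Matrix.nonsing_inv_mul _ hQu, Matrix.one_mul]
      _ = _ := by
          rw [← e', Matrix.mul_assoc Q⁻¹, Matrix.mul_assoc M',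
            Matrix.mul_nonsing_inv _ hQu, Matrix.mul_one]
  rw [← Matrix.mul_assoc, e, Matrix.mul_assoc, e2, Matrix.mul_assoc]

/-- The trace and determinant of the two classes. -/
def IsC (N : F) (M : Matrix (Fin 2) (Fin 2) F) : Prop :=
  NS M ∧ ((M.trace = 1 ∧ M.det = N) ∨ (M.trace = N⁻¹ ∧ M.det = N⁻¹))

theorem ns_of_irr {N : F} (hirr : ∀ r : F, r * r - r + N ≠ 0) {M : Matrix (Fin 2) (Fin 2) F}
    (ht : M.trace = 1) (hd : M.det = N) : NS M := by
  by_contra h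
  have e := not_NS h
  rw [e] at ht hd
  simp [Matrix.trace_fin_two] at ht
  simp [Matrix.det_fin_two] at hd
  exact hirr (M 0 0) (by linear_combination (-(1 : F)) * hd + (M 0 0) * ht)

theorem isC_smul {N : F} (hN : N ≠ 0) {M : Matrix (Fin 2) (Fin 2) F} (h : NS M)
    (ht : M.trace = 1) (hd : M.det = N) : IsC N (N⁻¹ • M) := by
  refine ⟨?_, Or.inr ⟨?_, ?_⟩⟩
  · simpa [NS, hN] using h
  · rw [Matrix.trace_smul, ht, smul_eq_mul, mul_one]
  · rw [Matrix.det_smul, hd, Fintype.card_fin]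
    field_simp

/-- Determinant `N²`: products of two elements of trace one and determinant `N`. -/
theorem exists_pair {N : F} (hN : N ≠ 0) (hirr : ∀ r : F, r * r - r + N ≠ 0)
    (hq : ∀ T : F, T ≠ 2 * N →
      ∃ p r : F, p ^ 2 + T * p * r + N ^ 2 * r ^ 2 - p - N * r + N = 0)
    {m : Matrix (Fin 2) (Fin 2) F} (hd : m.det = N ^ 2)
    (h : m = N • 1 ∨ (NS m ∧ m.trace ≠ 2 * N)) :
    ∃ A B : Matrix (Fin 2) (Fin 2) F, NS A ∧ A.trace = 1 ∧ A.det = N ∧
      NS B ∧ B.trace = 1 ∧ B.det = N ∧ m = A * B := by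
  rcases h with h | ⟨hns, hT⟩
  · refine ⟨!![1, -N; 1, 0], !![0, N; -1, 1], Or.inr (Or.inl (by simp)), by simp [Matrix.trace_fin_two],
      by simp [Matrix.det_fin_two], Or.inr (Or.inl (by simp)), by simp [Matrix.trace_fin_two],
      by simp [Matrix.det_fin_two], ?_⟩
    rw [h]
    ext i j
    fin_cases i <;> fin_cases j <;> simp [Matrix.mul_apply, Fin.sum_univ_two]
  obtain ⟨P, hP, e⟩ := exists_companion hns
  rw [hd] at e
  obtain ⟨p, r, hpr⟩ := hq _ hT
  set q := m.trace * p + N ^ 2 * r - N with hqdef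
  set A₀ : Matrix (Fin 2) (Fin 2) F := !![p, q; r, 1 - p] with hA₀
  set B₀ : Matrix (Fin 2) (Fin 2) F :=
    N⁻¹ • (!![1 - p, -q; -r, p] * !![0, -(N ^ 2); 1, m.trace]) with hB₀
  have hA₀d : A₀.det = N := by
    rw [hA₀, Matrix.det_fin_two_of, hqdef]; linear_combination -hpr
  have hB₀t : B₀.trace = 1 := by
    rw [hB₀, Matrix.trace_smul, Matrix.trace_fin_two]
    simp [Matrix.mul_apply, Fin.sum_univ_two, hqdef]
    field_simp
    ring
  have hB₀d : B₀.det = N := by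
    rw [hB₀, Matrix.det_smul, Matrix.det_mul, Fintype.card_fin, Matrix.det_fin_two_of,
      Matrix.det_fin_two_of, hqdef]
    field_simp
    linear_combination (-N ^ 2) * hpr
  have hAB : A₀ * B₀ = !![0, -(N ^ 2); 1, m.trace] := by
    rw [hB₀, Matrix.mul_smul, ← Matrix.mul_assoc,
      show A₀ * !![1 - p, -q; -r, p] = N • (1 : Matrix (Fin 2) (Fin 2) F) by
        rw [hA₀, hqdef]
        ext i j
        fin_cases i <;> fin_cases j <;> simp [Matrix.mul_apply, Fin.sum_univ_two] <;>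
          first | ring1 | linear_combination -hpr,
      Matrix.smul_mul, Matrix.one_mul, smul_smul, inv_mul_cancel₀ hN, one_smul]
  have hPu : IsUnit P.det := isUnit_iff_ne_zero.mpr hP
  have conj_inv : ∀ X : Matrix (Fin 2) (Fin 2) F,
      (P * X * P⁻¹).trace = X.trace ∧ (P * X * P⁻¹).det = X.det := fun X =>
    ⟨by rw [Matrix.trace_mul_comm, ← Matrix.mul_assoc, Matrix.nonsing_inv_mul _ hPu,
        Matrix.one_mul],
      by rw [Matrix.det_mul, Matrix.det_mul, mul_right_comm, ← Matrix.det_mul,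
        Matrix.mul_nonsing_inv _ hPu, Matrix.det_one, one_mul]⟩
  have hA₀t : A₀.trace = 1 := by simp [hA₀, Matrix.trace_fin_two]
  refine ⟨P * A₀ * P⁻¹, P * B₀ * P⁻¹, ?_, (conj_inv A₀).1.trans hA₀t, (conj_inv A₀).2.trans hA₀d,
    ?_, (conj_inv B₀).1.trans hB₀t, (conj_inv B₀).2.trans hB₀d, ?_⟩
  · exact ns_of_irr hirr ((conj_inv A₀).1.trans hA₀t) ((conj_inv A₀).2.trans hA₀d)
  · exact ns_of_irr hirr ((conj_inv B₀).1.trans hB₀t) ((conj_inv B₀).2.trans hB₀d)
  · calc m = m * (P * P⁻¹) := by rw [Matrix.mul_nonsing_inv _ hPu, Matrix.mul_one]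
      _ = P * (A₀ * B₀) * P⁻¹ := by rw [← Matrix.mul_assoc, e, hAB]
      _ = P * A₀ * (P⁻¹ * P) * B₀ * P⁻¹ := by
        rw [Matrix.nonsing_inv_mul _ hPu, Matrix.mul_one, Matrix.mul_assoc P A₀ B₀]
      _ = _ := by simp only [Matrix.mul_assoc]

/-- Products of two elements of the classes. -/
theorem exists_isC_pair {N : F} (hN : N ≠ 0) (hirr : ∀ r : F, r * r - r + N ≠ 0)
    (hq : ∀ T : F, T ≠ 2 * N →
      ∃ p r : F, p ^ 2 + T * p * r + N ^ 2 * r ^ 2 - p - N * r + N = 0)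
    {m : Matrix (Fin 2) (Fin 2) F} {k : F} (hk : k = 1 ∨ k = N ∨ k = N ^ 2)
    (hd : k ^ 2 * m.det = N ^ 2)
    (h : k • m = N • 1 ∨ (NS m ∧ k * m.trace ≠ 2 * N)) :
    ∃ A B : Matrix (Fin 2) (Fin 2) F, IsC N A ∧ IsC N B ∧ m = A * B := by
  have hk0 : k ≠ 0 := by rcases hk with rfl | rfl | rfl <;> simp [hN]
  obtain ⟨A, B, hA, hAt, hAd, hB, hBt, hBd, e⟩ := exists_pair hN hirr hq (m := k • m)
    (by rw [Matrix.det_smul, Fintype.card_fin]; exact hd)
    (h.imp id fun h => ⟨by simpa [NS, hk0] using h.1, by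
      rw [Matrix.trace_smul]; exact h.2⟩)
  have em : m = k⁻¹ • (A * B) := by rw [← e, smul_smul, inv_mul_cancel₀ hk0, one_smul]
  rcases hk with rfl | rfl | rfl
  · exact ⟨A, B, ⟨hA, Or.inl ⟨hAt, hAd⟩⟩, ⟨hB, Or.inl ⟨hBt, hBd⟩⟩, by simpa using em⟩
  · exact ⟨_, B, isC_smul hN hA hAt hAd, ⟨hB, Or.inl ⟨hBt, hBd⟩⟩, by rw [em, Matrix.smul_mul]⟩
  · refine ⟨_, _, isC_smul hN hA hAt hAd, isC_smul hN hB hBt hBd, ?_⟩
    rw [em, Matrix.smul_mul, Matrix.mul_smul, smul_smul, sq, _root_.mul_inv]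

end CfsgLib.OreG2
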