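import Cfsg.Agent.OreChev.Moves
import Cfsg.Agent.Chev.GoodAll

/-!
The big cell of `G₂(q)`: the torus in coordinates and conjugating to prescribe it.
-/

set_option autoImplicit false
set_option linter.style.haveILetI false

namespace CfsgLib.OreG2

open Cfsg.Lie Matrix CfsgLib.Chev CfsgLib.Chev.Tab
open scoped MatrixGroups

/-- The short fundamental root. -/
abbrev ia : Fin chevG2.rank := ⟨0, Nat.zero_lt_two⟩

/-- The long fundamental root. -/
abbrev ib : Fin chevG2.rank := ⟨1, Nat.one_lt_two⟩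

/-- A word for the longest element. -/
def longWord : List (Fin chevG2.rank) := [ia, ib, ia, ib, ia, ib]

theorem chk_long : ∀ s : Fin chevG2.nroots,
    G2Data.tab.wordT (longWord.map Fin.val) s.val = negR chevG2 s.val := by decide +kernel

variable {F : Type*} [Field F]

/-- The longest element. -/
noncomputable def nLong (F : Type*) [Field F] : GL chevG2.Idx F := good_G2.full.nw F longWord

theorem nLong_act : good_G2.full.RootAct (nLong F) (negPerm chevG2) := by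
  have e : good_G2.full.pw longWord = negPerm chevG2 := Equiv.ext fun s => Fin.ext (by
    rw [good_G2.pw_apply]; exact chk_long s)
  exact e ▸ good_G2.rootAct_nw longWord

theorem nLong_mem_monomial : nLong F ∈ chevG2.monomialSubgroup F :=
  good_G2.nw_mem_monomial longWord

theorem nLong_mem : nLong F ∈ chevG2.group F := good_G2.monomial_le_group nLong_mem_monomial

/-- Torus coordinates. -/
def tc (l d : Fˣ) : Fin chevG2.rank → Fˣ := fun i => if i.val = 0 then l else d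

theorem tc_eq (c : Fin chevG2.rank → Fˣ) : c = tc (c ia) (c ib) := by
  funext i
  match i with
  | ⟨0, h⟩ => rfl
  | ⟨1, h⟩ => rfl

theorem tc_mul (l d l' d' : Fˣ) : tc l d * tc l' d' = tc (l * l') (d * d') := by
  funext i
  match i with
  | ⟨0, h⟩ => rfl
  | ⟨1, h⟩ => rfl

theorem single_ia (t : Fˣ) : Pi.mulSingle ia t = tc t (1 : Fˣ) := by
  funext i
  match i with
  | ⟨0, h⟩ => rfl
  | ⟨1, h⟩ => rfl

theorem single_ib (t : Fˣ) : Pi.mulSingle ib t = tc (1 : Fˣ) t := by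
  funext i
  match i with
  | ⟨0, h⟩ => rfl
  | ⟨1, h⟩ => rfl

theorem chk_cart : ([(6, -3, 2), (7, 2, -1), (8, -1, 1), (9, 1, 0), (10, 3, -1), (11, 0, 1)] :
    List (ℕ × ℤ × ℤ)).all (fun e => decide (G2Data.tab.cart 0 e.1 = e.2.1) &&
      decide (G2Data.tab.cart 1 e.1 = e.2.2)) = true := by decide +kernel

theorem chk_simple : chevG2.simple (ia : ℕ) = 7 ∧ chevG2.simple (ib : ℕ) = 6 := by decide +kernel

theorem chi_tc {s : ℕ} {a b : ℤ} (h : (s, a, b) ∈ ([(6, -3, 2), (7, 2, -1), (8, -1, 1), (9, 1, 0),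
    (10, 3, -1), (11, 0, 1)] : List (ℕ × ℤ × ℤ))) (l d : Fˣ) :
    G2Data.tab.chi (F := F) s (tc l d) = l ^ a * d ^ b := by
  have := List.all_eq_true.mp chk_cart _ h
  simp only [Bool.and_eq_true, decide_eq_true_eq] at this
  show ∏ i : Fin 2, tc l d i ^ G2Data.tab.cart i s = _
  rw [Fin.prod_univ_two]
  show l ^ G2Data.tab.cart 0 s * d ^ G2Data.tab.cart 1 s = _
  rw [this.1, this.2]

theorem chi_a (l d : Fˣ) :
    G2Data.tab.chi (F := F) (chevG2.simple (ia : ℕ)) (tc l d) = l ^ 2 * d⁻¹ := by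
  rw [chk_simple.1, chi_tc (a := 2) (b := -1) (by decide)]
  simp [zpow_ofNat]

theorem chi_b (l d : Fˣ) :
    G2Data.tab.chi (F := F) (chevG2.simple (ib : ℕ)) (tc l d) = (l ^ 3)⁻¹ * d ^ 2 := by
  rw [chk_simple.2, chi_tc (a := -3) (b := 2) (by decide)]
  simp [_root_.zpow_neg, zpow_ofNat]

/-- The element is conjugate to one in the big cell with the given torus part. -/
def Cell (g : GL chevG2.Idx F) (c : Fin chevG2.rank → Fˣ) : Prop :=
  ∃ y ∈ chevG2.group F, ∃ v ∈ chevG2.negUnipotent F, ∃ u ∈ chevG2.posUnipotent F,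
    y * g * y⁻¹ = v * G2Data.tab.hT F c * u

theorem exists_cell {g : GL chevG2.Idx F} (hg : g ∈ chevG2.group F) :
    ∃ l d : Fˣ, Cell g (tc l d) := by
  obtain ⟨y, hy, v, hv, c, u, hu, e⟩ := good_G2.exists_conj_cell nLong_act hg
  exact ⟨c ia, c ib, y, hy, v, hv, u, hu, by rw [← tc_eq c]; exact e⟩

theorem cell_move [Fintype F] (h3 : 3 ≤ Fintype.card F) {g : GL chevG2.Idx F}
    {c : Fin chevG2.rank → Fˣ} (h : Cell g c) (i : Fin chevG2.rank)
    (hne : G2Data.tab.chi (chevG2.simple i) c ≠ 1) (t : Fˣ) :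
    Cell g (Pi.mulSingle i t * c) := by
  obtain ⟨y, hy, v, hv, u, hu, e⟩ := h
  obtain ⟨V, hV, w, rfl⟩ := good_G2.neg_split nLong_act i hv
  obtain ⟨q, a, ha, rfl⟩ := good_G2.pos_split_left i hu
  obtain ⟨y', hy', V', hV', a', ha', w', q', e'⟩ :=
    good_G2.move h3 nLong_act i hV ha w q c (Or.inl hne) t
  refine ⟨y' * y, mul_mem hy' hy, _, mul_mem (good_G2.negUp_le_neg i hV')
    (good_G2.x_mem_neg (Cert.negR_lt (good_G2.full.simple_lt i.isLt))
      (fun h => good_G2.negR_pos (good_G2.pos_simp i) h.2) w'),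
    _, mul_mem (good_G2.x_mem_pos (r := chevG2.simple i) (good_G2.pos_simp i) q') (good_G2.Up_le_pos i ha'), ?_⟩
  rw [← e', ← e]
  group

theorem cell_move_a [Fintype F] (h3 : 3 ≤ Fintype.card F) {g : GL chevG2.Idx F} {l d : Fˣ}
    (h : Cell g (tc l d)) (hne : l ^ 2 * d⁻¹ ≠ 1) (l' : Fˣ) : Cell g (tc l' d) := by
  have := cell_move h3 h ia (by rw [chi_a]; exact hne) (l' * l⁻¹)
  rwa [single_ia, tc_mul, one_mul, inv_mul_cancel_right] at this

theorem cell_move_b [Fintype F] (h3 : 3 ≤ Fintype.card F) {g : GL chevG2.Idx F} {l d : Fˣ}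
    (h : Cell g (tc l d)) (hne : (l ^ 3)⁻¹ * d ^ 2 ≠ 1) (d' : Fˣ) : Cell g (tc l d') := by
  have := cell_move h3 h ib (by rw [chi_b]; exact hne) (d' * d⁻¹)
  rwa [single_ib, tc_mul, one_mul, inv_mul_cancel_right] at this

/-- The element is a product of two conjugates of `x`. -/
def Cover (x g : GL chevG2.Idx F) : Prop :=
  ∃ u ∈ chevG2.group F, ∃ v ∈ chevG2.group F, g = u * x * u⁻¹ * (v * x * v⁻¹)

theorem Cover.of_conj {x g y : GL chevG2.Idx F} (hy : y ∈ chevG2.group F)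
    (h : Cover x (y * g * y⁻¹)) : Cover x g := by
  obtain ⟨u, hu, v, hv, e⟩ := h
  refine ⟨y⁻¹ * u, mul_mem (inv_mem hy) hu, y⁻¹ * v, mul_mem (inv_mem hy) hv, ?_⟩
  calc g = y⁻¹ * (y * g * y⁻¹) * y := by group
    _ = _ := by rw [e]; group

theorem result_of_cover [Fintype F] {p : ℕ} {x : GL chevG2.Idx F} (hx : x ∈ chevG2.group F)
    {k : ℕ} (hk : x ^ k = 1) (hpk : ¬ p ∣ k)
    (h : ∀ g ∈ chevG2.group F, g ≠ 1 → Cover x g) :
    ∃ x : chevG2.group F, ¬ p ∣ orderOf x ∧ ∀ g : chevG2.group F, g ≠ 1 →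
      ∃ u v : chevG2.group F, g = (u * x * u⁻¹) * (v * x * v⁻¹) := by
  refine ⟨⟨x, hx⟩, fun hd => hpk (hd.trans (orderOf_dvd_of_pow_eq_one (Subtype.ext hk))),
    fun g hg => ?_⟩
  obtain ⟨u, hu, v, hv, e⟩ := h g g.2 fun e => hg (Subtype.ext e)
  exact ⟨⟨u, hu⟩, ⟨v, hv⟩, Subtype.ext e⟩

theorem hT_mem (c : Fin chevG2.rank → Fˣ) : G2Data.tab.hT F c ∈ chevG2.group F :=
  good_G2.borel_le_group (good_G2.borel_hT c)

theorem finite_GL [Fintype F] : Finite (GL chevG2.Idx F) := by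
  classical
  infer_instance

end CfsgLib.OreG2
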