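import Cfsg.Agent.OreG2.Basic
import Mathlib.Algebra.CharP.Two

/-!
Commutator formulas of `G₂` in characteristic two, and coordinates on the unipotent radical below.
-/

set_option autoImplicit false
set_option linter.style.haveILetI false

namespace CfsgLib.OreG2

open Cfsg.Lie Matrix CfsgLib.Chev CfsgLib.Chev.Tab
open scoped MatrixGroups

variable {F : Type*} [Field F]

/-- A root element. -/
noncomputable def X (r : ℕ) (t : F) : GL chevG2.Idx F := good_G2.full.x r t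

theorem X_add (r : ℕ) (t u : F) : X r t * X r u = X r (t + u) := good_G2.full.x_add r t u

theorem X_zero (r : ℕ) : X r (0 : F) = 1 := good_G2.full.x_zero r

theorem X_inv (r : ℕ) (t : F) : (X r t)⁻¹ = X r (-t) := good_G2.full.x_inv r t

theorem X_conj {r s : ℕ} (hr : r < 12) (hs : s < 12) (hne : s ≠ r)
    (hn : s ≠ negR chevG2 r) (l : List (ℕ × ℤ × ℕ × ℕ)) (hl : G2Data.tab.commT r s = l)
    (t u : F) : X r t * X s u * (X r t)⁻¹ =
      X s u * (l.map fun c => X c.1 ((c.2.1 : F) * (t ^ c.2.2.1 * u ^ c.2.2.2))).prod := by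
  have h := good_G2.full.x_comm (r := r) (s := s) hr hs hne hn (-t) u
  rw [good_G2.full.cert.commWord_eq hr hs, hl] at h
  rw [X_inv]
  unfold X
  rw [mul_assoc, h]
  simp only [rhsWord, List.map_map, neg_neg, ← mul_assoc]
  rw [good_G2.full.x_add, add_neg_cancel, good_G2.full.x_zero, one_mul]
  rfl

variable [CharP F 2]

theorem e63 (t u : F) : X 6 t * X 3 u * (X 6 t)⁻¹ =
    X 3 u * (X 4 (t * u) * (X 2 (t * u ^ 2) * X 0 (t * u ^ 3))) := by
  rw [X_conj (r := 6) (s := 3) (by norm_num) (by norm_num) (by norm_num) (by decide +kernel)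
    [(4, -1, 1, 1), (2, -1, 1, 2), (0, -1, 1, 3), (1, 2, 2, 3)] (by decide +kernel)]
  simp [CharTwo.neg_eq, CharTwo.two_eq_zero, X_zero]

theorem e62 (t u : F) : X 6 t * X 2 u * (X 6 t)⁻¹ = X 2 u := by
  rw [X_conj (r := 6) (s := 2) (by norm_num) (by norm_num) (by norm_num) (by decide +kernel)
    [] (by decide +kernel)]
  simp

theorem e61 (t u : F) : X 6 t * X 1 u * (X 6 t)⁻¹ = X 1 u := by
  rw [X_conj (r := 6) (s := 1) (by norm_num) (by norm_num) (by norm_num) (by decide +kernel)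
    [] (by decide +kernel)]
  simp

theorem e60 (t u : F) : X 6 t * X 0 u * (X 6 t)⁻¹ = X 0 u * X 1 (t * u) := by
  rw [X_conj (r := 6) (s := 0) (by norm_num) (by norm_num) (by norm_num) (by decide +kernel)
    [(1, -1, 1, 1)] (by decide +kernel)]
  simp [CharTwo.neg_eq]

theorem e75 (t u : F) : X 7 t * X 5 u * (X 7 t)⁻¹ = X 5 u := by
  rw [X_conj (r := 7) (s := 5) (by norm_num) (by norm_num) (by norm_num) (by decide +kernel)
    [] (by decide +kernel)]
  simp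

theorem three_eq_one : (3 : F) = 1 := by
  linear_combination (CharTwo.two_eq_zero : (2 : F) = 0)

theorem e73 (t u : F) : X 7 t * X 3 u * (X 7 t)⁻¹ = X 3 u * X 5 (t * u) := by
  rw [X_conj (r := 7) (s := 3) (by norm_num) (by norm_num) (by norm_num) (by decide +kernel)
    [(5, 3, 1, 1)] (by decide +kernel)]
  simp [three_eq_one]

theorem e72 (t u : F) : X 7 t * X 2 u * (X 7 t)⁻¹ =
    X 2 u * (X 5 (t ^ 2 * u) * X 0 (t * u ^ 2)) := by
  rw [X_conj (r := 7) (s := 2) (by norm_num) (by norm_num) (by norm_num) (by decide +kernel)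
    [(3, 2, 1, 1), (5, 3, 2, 1), (0, -3, 1, 2)] (by decide +kernel)]
  simp [three_eq_one, CharTwo.neg_eq, CharTwo.two_eq_zero, X_zero]

theorem e71 (t u : F) : X 7 t * X 1 u * (X 7 t)⁻¹ =
    X 1 u * (X 2 (t * u) * (X 3 (t ^ 2 * u) * (X 5 (t ^ 3 * u) * X 0 (t ^ 3 * u ^ 2)))) := by
  rw [X_conj (r := 7) (s := 1) (by norm_num) (by norm_num) (by norm_num) (by decide +kernel)
    [(2, -1, 1, 1), (3, -1, 2, 1), (5, -1, 3, 1), (0, -1, 3, 2)] (by decide +kernel)]
  simp [CharTwo.neg_eq]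

theorem e70 (t u : F) : X 7 t * X 0 u * (X 7 t)⁻¹ = X 0 u := by
  rw [X_conj (r := 7) (s := 0) (by norm_num) (by norm_num) (by norm_num) (by decide +kernel)
    [] (by decide +kernel)]
  simp

theorem e51 (t u : F) : X 5 t * X 1 u * (X 5 t)⁻¹ = X 1 u * X 0 (t * u) := by
  rw [X_conj (r := 5) (s := 1) (by norm_num) (by norm_num) (by norm_num) (by decide +kernel)
    [(0, -1, 1, 1)] (by decide +kernel)]
  simp [CharTwo.neg_eq]

theorem e32 (t u : F) : X 3 t * X 2 u * (X 3 t)⁻¹ = X 2 u * X 0 (t * u) := by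
  rw [X_conj (r := 3) (s := 2) (by norm_num) (by norm_num) (by norm_num) (by decide +kernel)
    [(0, -3, 1, 1)] (by decide +kernel)]
  simp [three_eq_one, CharTwo.neg_eq]

omit [CharP F 2] in
theorem eA0 (t u : F) : X 10 t * X 0 u * (X 10 t)⁻¹ = X 0 u * X 5 (t * u) := by
  rw [X_conj (r := 10) (s := 0) (by norm_num) (by norm_num) (by norm_num) (by decide +kernel)
    [(5, 1, 1, 1)] (by decide +kernel)]
  simp

omit [CharP F 2] in
theorem e68 (t u : F) : X 6 t * X 8 u * (X 6 t)⁻¹ = X 8 u := by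
  rw [X_conj (r := 6) (s := 8) (by norm_num) (by norm_num) (by norm_num) (by decide +kernel)
    [] (by decide +kernel)]
  simp

theorem e67 (t u : F) : X 6 t * X 7 u * (X 6 t)⁻¹ =
    X 7 u * (X 8 (t * u) * (X 9 (t * u ^ 2) * X 10 (t * u ^ 3))) := by
  rw [X_conj (r := 6) (s := 7) (by norm_num) (by norm_num) (by norm_num) (by decide +kernel)
    [(8, 1, 1, 1), (9, 1, 1, 2), (10, -1, 1, 3), (11, -2, 2, 3)] (by decide +kernel)]
  simp [CharTwo.neg_eq, CharTwo.two_eq_zero, X_zero]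

omit [CharP F 2] in
theorem X_commute {r s i : ℕ} (h : (r, s, i) ∈ ([(5, 3, 9), (5, 2, 10), (5, 0, 12), (3, 1, 14),
    (3, 0, 15), (2, 1, 16), (2, 0, 17), (1, 0, 18)] : List (ℕ × ℕ × ℕ))) (t u : F) :
    X r t * X s u = X s u * X r t := by
  simp only [List.mem_cons, List.not_mem_nil, or_false, Prod.mk.injEq] at h
  rcases h with ⟨rfl, rfl, rfl⟩ | ⟨rfl, rfl, rfl⟩ | ⟨rfl, rfl, rfl⟩ | ⟨rfl, rfl, rfl⟩ |
    ⟨rfl, rfl, rfl⟩ | ⟨rfl, rfl, rfl⟩ | ⟨rfl, rfl, rfl⟩ | ⟨rfl, rfl, rfl⟩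
  all_goals
    refine mul_inv_eq_iff_eq_mul.mp ?_
  · rw [X_conj (r := 5) (s := 3) (by norm_num) (by norm_num) (by norm_num) (by decide +kernel)
      [] (by decide +kernel)]; simp
  · rw [X_conj (r := 5) (s := 2) (by norm_num) (by norm_num) (by norm_num) (by decide +kernel)
      [] (by decide +kernel)]; simp
  · rw [X_conj (r := 5) (s := 0) (by norm_num) (by norm_num) (by norm_num) (by decide +kernel)
      [] (by decide +kernel)]; simp
  · rw [X_conj (r := 3) (s := 1) (by norm_num) (by norm_num) (by norm_num) (by decide +kernel)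
      [] (by decide +kernel)]; simp
  · rw [X_conj (r := 3) (s := 0) (by norm_num) (by norm_num) (by norm_num) (by decide +kernel)
      [] (by decide +kernel)]; simp
  · rw [X_conj (r := 2) (s := 1) (by norm_num) (by norm_num) (by norm_num) (by decide +kernel)
      [] (by decide +kernel)]; simp
  · rw [X_conj (r := 2) (s := 0) (by norm_num) (by norm_num) (by norm_num) (by decide +kernel)
      [] (by decide +kernel)]; simp
  · rw [X_conj (r := 1) (s := 0) (by norm_num) (by norm_num) (by norm_num) (by decide +kernel)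
      [] (by decide +kernel)]; simp

/-- Coordinates on the radical below. -/
noncomputable def lowN (a v1 v2 w γ : F) : GL chevG2.Idx F :=
  X 0 a * X 1 v1 * X 2 v2 * X 3 w * X 5 γ

theorem lowN_mul (a v1 v2 w γ a' v1' v2' w' γ' : F) :
    lowN a v1 v2 w γ * lowN a' v1' v2' w' γ' =
      lowN (a + a' + γ * v1' + w * v2') (v1 + v1') (v2 + v2') (w + w') (γ + γ') := by
  have c51 : ∀ t u : F, X 5 t * X 1 u = X 0 (t * u) * X 1 u * X 5 t := fun t u => by
    rw [← X_commute (r := 1) (s := 0) (i := 18) (by decide) u (t * u), ← e51 t u]; group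
  have c32 : ∀ t u : F, X 3 t * X 2 u = X 0 (t * u) * X 2 u * X 3 t := fun t u => by
    rw [← X_commute (r := 2) (s := 0) (i := 17) (by decide) u (t * u), ← e32 t u]; group
  have c50 : ∀ t u : F, X 5 t * X 0 u = X 0 u * X 5 t := X_commute (i := 12) (by decide)
  have c30 : ∀ t u : F, X 3 t * X 0 u = X 0 u * X 3 t := X_commute (i := 15) (by decide)
  have c20 : ∀ t u : F, X 2 t * X 0 u = X 0 u * X 2 t := X_commute (i := 17) (by decide)
  have c10 : ∀ t u : F, X 1 t * X 0 u = X 0 u * X 1 t := X_commute (i := 18) (by decide)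
  have c31 : ∀ t u : F, X 3 t * X 1 u = X 1 u * X 3 t := X_commute (i := 14) (by decide)
  have c21 : ∀ t u : F, X 2 t * X 1 u = X 1 u * X 2 t := X_commute (i := 16) (by decide)
  have c52 : ∀ t u : F, X 5 t * X 2 u = X 2 u * X 5 t := X_commute (i := 10) (by decide)
  have c53 : ∀ t u : F, X 5 t * X 3 u = X 3 u * X 5 t := X_commute (i := 9) (by decide)
  simp only [lowN]
  calc X 0 a * X 1 v1 * X 2 v2 * X 3 w * X 5 γ * (X 0 a' * X 1 v1' * X 2 v2' * X 3 w' * X 5 γ')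
      = X 0 a * X 1 v1 * X 2 v2 * (X 3 w * (X 5 γ * X 0 a')) * X 1 v1' * X 2 v2' * X 3 w' *
          X 5 γ' := by group
    _ = X 0 a * (X 1 v1 * (X 2 v2 * X 0 a')) * X 3 w * (X 5 γ * X 1 v1') * X 2 v2' * X 3 w' *
          X 5 γ' := by rw [c50, ← mul_assoc (X 3 w), c30]; group
    _ = X 0 a * X 0 a' * X 1 v1 * (X 2 v2 * (X 3 w * X 0 (γ * v1'))) * X 1 v1' * (X 5 γ * X 2 v2') *
          X 3 w' * X 5 γ' := by rw [c20, ← mul_assoc (X 1 v1), c10, c51]; group
    _ = X 0 (a + a') * (X 1 v1 * X 0 (γ * v1')) * X 2 v2 * (X 3 w * X 1 v1') * X 2 v2' *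
          (X 5 γ * X 3 w') * X 5 γ' := by rw [c30, ← mul_assoc (X 2 v2), c20, c52, X_add]; group
    _ = X 0 (a + a') * X 0 (γ * v1') * X 1 v1 * (X 2 v2 * X 1 v1') * (X 3 w * X 2 v2') * X 3 w' *
          (X 5 γ * X 5 γ') := by rw [c10, c31, c53]; group
    _ = X 0 (a + a' + γ * v1') * (X 1 v1 * X 1 v1') * (X 2 v2 * X 0 (w * v2')) * X 2 v2' *
          (X 3 w * X 3 w') * X 5 (γ + γ') := by rw [X_add, c21, c32, X_add]; group
    _ = X 0 (a + a' + γ * v1') * (X 1 (v1 + v1') * X 0 (w * v2')) * (X 2 v2 * X 2 v2') *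
          X 3 (w + w') * X 5 (γ + γ') := by rw [c20, X_add, X_add]; group
    _ = _ := by rw [c10, X_add, ← mul_assoc, X_add]

theorem exists_lowN {V : GL chevG2.Idx F} (hV : V ∈ good_G2.US F (negUpSet chevG2 ia)) :
    ∃ a v1 v2 w γ : F, V = lowN a v1 v2 w γ := by
  induction hV using Subgroup.closure_induction with
  | mem g hg =>
    obtain ⟨r, ⟨hr, hp, hne⟩, t, rfl⟩ := hg
    change r < 12 at hr
    have h6 : r < 6 := by
      by_contra hh
      exact hp ⟨hr, by show (12 : ℕ) ≤ 2 * r; omega⟩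
    have h4 : r ≠ 4 := fun hh => hne (by rw [hh]; decide +kernel)
    change ∃ a v1 v2 w γ : F, X r t = lowN a v1 v2 w γ
    interval_cases r
    · exact ⟨t, 0, 0, 0, 0, by simp [lowN, X_zero]⟩
    · exact ⟨0, t, 0, 0, 0, by simp [lowN, X_zero]⟩
    · exact ⟨0, 0, t, 0, 0, by simp [lowN, X_zero]⟩
    · exact ⟨0, 0, 0, t, 0, by simp [lowN, X_zero]⟩
    · exact absurd rfl h4
    · exact ⟨0, 0, 0, 0, t, by simp [lowN, X_zero]⟩
  | one => exact ⟨0, 0, 0, 0, 0, by simp [lowN, X_zero]⟩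
  | mul a b _ _ ha hb =>
    obtain ⟨_, _, _, _, _, rfl⟩ := ha
    obtain ⟨_, _, _, _, _, rfl⟩ := hb
    exact ⟨_, _, _, _, _, lowN_mul _ _ _ _ _ _ _ _ _ _⟩
  | inv g _ hg =>
    obtain ⟨a, v1, v2, w, γ, rfl⟩ := hg
    refine ⟨-(a + γ * -v1 + w * -v2), -v1, -v2, -w, -γ, inv_eq_of_mul_eq_one_right ?_⟩
    rw [lowN_mul, show a + -(a + γ * -v1 + w * -v2) + γ * -v1 + w * -v2 = 0 by ring,
      add_neg_cancel, add_neg_cancel, add_neg_cancel, add_neg_cancel]
    simp [lowN, X_zero]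

omit [CharP F 2] in
theorem X_mem_negUp {r : ℕ} (hr : r ∈ ([0, 1, 2, 3, 5] : List ℕ)) (t : F) :
    X r t ∈ good_G2.US F (negUpSet chevG2 ia) := by
  refine good_G2.x_mem_US (S := negUpSet chevG2 ia) ?_ t
  have e : negR chevG2 (chevG2.simple (ia : ℕ)) = 4 := by decide +kernel
  simp only [List.mem_cons, List.not_mem_nil, or_false] at hr
  refine ⟨by show r < 12; omega, fun h => ?_, by rw [e]; omega⟩
  have := h.2
  change 12 ≤ 2 * r at this
  omega

omit [CharP F 2] in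
theorem lowN_mem (a v1 v2 w γ : F) : lowN a v1 v2 w γ ∈ good_G2.US F (negUpSet chevG2 ia) :=
  mul_mem (mul_mem (mul_mem (mul_mem (X_mem_negUp (by decide) a) (X_mem_negUp (by decide) v1))
    (X_mem_negUp (by decide) v2)) (X_mem_negUp (by decide) w)) (X_mem_negUp (by decide) γ)

theorem lowN_conj7 (z a v1 v2 w γ : F) : ∃ a' v1' v2' : F,
    X 7 z * lowN a v1 v2 w γ * (X 7 z)⁻¹ =
      lowN a' v1' v2' (w + z ^ 2 * v1) (γ + z * w + z ^ 2 * v2 + z ^ 3 * v1) := by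
  have k0 : X 7 z * X 0 a * (X 7 z)⁻¹ = lowN a 0 0 0 0 := by
    rw [e70]; simp [lowN, X_zero]
  have k1 : X 7 z * X 1 v1 * (X 7 z)⁻¹ =
      lowN 0 v1 (z * v1) (z ^ 2 * v1) (z ^ 3 * v1) * lowN (z ^ 3 * v1 ^ 2) 0 0 0 0 := by
    rw [e71]; simp [lowN, X_zero, mul_assoc]
  have k2 : X 7 z * X 2 v2 * (X 7 z)⁻¹ =
      lowN 0 0 v2 0 (z ^ 2 * v2) * lowN (z * v2 ^ 2) 0 0 0 0 := by
    rw [e72]; simp [lowN, X_zero, mul_assoc]
  have k3 : X 7 z * X 3 w * (X 7 z)⁻¹ = lowN 0 0 0 w (z * w) := by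
    rw [e73]; simp [lowN, X_zero]
  have k5 : X 7 z * X 5 γ * (X 7 z)⁻¹ = lowN 0 0 0 0 γ := by
    rw [e75]; simp [lowN, X_zero]
  have e : X 7 z * lowN a v1 v2 w γ * (X 7 z)⁻¹ =
      (X 7 z * X 0 a * (X 7 z)⁻¹) * (X 7 z * X 1 v1 * (X 7 z)⁻¹) *
      (X 7 z * X 2 v2 * (X 7 z)⁻¹) * (X 7 z * X 3 w * (X 7 z)⁻¹) *
      (X 7 z * X 5 γ * (X 7 z)⁻¹) := by
    simp only [lowN]; group
  rw [e, k0, k1, k2, k3, k5]
  simp only [lowN_mul, add_zero, zero_add, mul_zero, zero_mul]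
  rw [show z ^ 3 * v1 + z ^ 2 * v2 + z * w + γ = γ + z * w + z ^ 2 * v2 + z ^ 3 * v1 by ring,
    add_comm (z ^ 2 * v1) w]
  exact ⟨_, _, _, rfl⟩

end CfsgLib.OreG2
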