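import Cfsg.Agent.OreG2.Small
import Cfsg.Agent.OreG2.Comm

/-!
`G₂(4)`.
-/

set_option autoImplicit false
set_option linter.style.haveILetI false

namespace CfsgLib.OreG2

open Cfsg.Lie Matrix CfsgLib.Chev CfsgLib.Chev.Tab
open scoped MatrixGroups

variable {F : Type*} [Field F] [Fintype F]

/-- The positive roots other than the long fundamental root. -/
abbrev upSetB : Set ℕ := {s | IsPos chevG2 s ∧ s ≠ chevG2.simple (ib : ℕ)}

theorem four_units (h : Fintype.card F = 4) {N : Fˣ} (hN : N ≠ 1) :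
    N ^ 3 = 1 ∧ ∀ u : Fˣ, u = 1 ∨ u = N ∨ u = N ^ 2 := by
  classical
  have h3 : Fintype.card Fˣ = 3 := by rw [Fintype.card_units, h]
  have hpow : ∀ u : Fˣ, u ^ 3 = 1 := fun u => by rw [← h3]; exact pow_card_eq_one
  have hN2 : N ^ 2 ≠ 1 := fun e => hN (by
    have e3 := hpow N
    rwa [pow_succ, e, one_mul] at e3)
  have hN2' : N ^ 2 ≠ N := fun e => hN (by
    rw [sq] at e
    exact mul_eq_left.mp e)
  refine ⟨hpow N, fun u => ?_⟩
  have hs : ({1, N, N ^ 2} : Finset Fˣ) = Finset.univ := Finset.eq_univ_of_card _ (by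
    rw [h3, Finset.card_insert_of_notMem (by simp [Ne.symm hN, Ne.symm hN2]),
      Finset.card_pair (Ne.symm hN2')])
  have := Finset.mem_univ u
  rw [← hs] at this
  simpa using this

section Four

variable [CharP F 2] (h4 : Fintype.card F = 4) {N : Fˣ} (E : EllData N 5)
include h4 E

omit [CharP F 2] in
theorem exists_scale (d : Fˣ) :
    ∃ c : Fˣ, c ^ 2 * d = N ^ 2 ∧ ((c : F) = 1 ∨ (c : F) = N ∨ (c : F) = (N : F) ^ 2) := by
  have hN : N ≠ 1 := fun e => E.hN1 (by rw [e, Units.val_one])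
  obtain ⟨h3, hu⟩ := four_units h4 hN
  obtain ⟨hd3, -⟩ : d ^ 3 = 1 ∧ True := ⟨by
    rcases hu d with rfl | rfl | rfl
    · exact one_pow 3
    · exact h3
    · rw [← pow_mul, mul_comm, pow_mul, h3, one_pow], trivial⟩
  refine ⟨N * d, ?_, ?_⟩
  · rw [mul_pow, mul_assoc, ← pow_succ, hd3, mul_one]
  · rcases hu (N * d) with e | e | e <;> rw [e] <;> simp

/-- A cell with nonzero Levi trace is covered. -/
theorem cover_trace {g y V a : GL chevG2.Idx F} (hy : y ∈ chevG2.group F)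
    (hV : V ∈ good_G2.US F (negUpSet chevG2 ia)) (ha : a ∈ good_G2.US F upSet) (w q : F) (l d : Fˣ)
    (hg : y * g * y⁻¹ = V * good_G2.full.x (negR chevG2 (chevG2.simple (ia : ℕ))) w *
      G2Data.tab.hT F (tc l d) * (good_G2.full.x (chevG2.simple (ia : ℕ)) q * a))
    (hT : (cellMat w q l d).trace ≠ 0) : Cover (ell N) g := by
  obtain ⟨c, hc, hc'⟩ := exists_scale h4 E d
  have hcv : (c : F) ^ 2 * (d : F) = (N : F) ^ 2 := by
    have := congrArg Units.val hc
    simpa using this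
  refine E.cover_mat hy hV ha w q l d hg hc' hcv ?_
  by_cases hns : NS (cellMat w q l d)
  · refine Or.inr ⟨hns, ?_⟩
    rw [CharTwo.two_eq_zero (R := F), zero_mul]
    exact mul_ne_zero c.ne_zero hT
  · exfalso
    rw [not_NS hns, Matrix.trace_fin_two] at hT
    exact hT (by simp [CharTwo.add_self_eq_zero])

/-- A scalar cell is covered. -/
theorem cover_scalar {g y V a : GL chevG2.Idx F} (hy : y ∈ chevG2.group F)
    (hV : V ∈ good_G2.US F (negUpSet chevG2 ia)) (ha : a ∈ good_G2.US F upSet) (w q : F) (l d : Fˣ)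
    (hg : y * g * y⁻¹ = V * good_G2.full.x (negR chevG2 (chevG2.simple (ia : ℕ))) w *
      G2Data.tab.hT F (tc l d) * (good_G2.full.x (chevG2.simple (ia : ℕ)) q * a))
    (hns : ¬ NS (cellMat w q l d)) : Cover (ell N) g := by
  obtain ⟨c, hc, hc'⟩ := exists_scale h4 E d
  have hcv : (c : F) ^ 2 * (d : F) = (N : F) ^ 2 := by
    have := congrArg Units.val hc
    simpa using this
  refine E.cover_mat hy hV ha w q l d hg hc' hcv (Or.inl ?_)
  have e0 := not_NS hns
  have e00 : cellMat w q l d 0 0 = (l : F) := rfl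
  rw [e00] at e0
  have hl : (d : F) = (l : F) ^ 2 := by
    rw [← det_cellMat w q l d, e0, Matrix.det_smul, Matrix.det_one, Fintype.card_fin, mul_one]
  rw [e0, smul_smul]
  congr 1
  exact sub_eq_zero.mp (mul_self_eq_zero.mp (by
    linear_combination hcv - (c : F) ^ 2 * hl + ((N : F) ^ 2 - (c : F) * l * N) *
      (CharTwo.two_eq_zero : (2 : F) = 0)))

omit [CharP F 2] h4 E in
theorem ia_ne_ib : chevG2.simple (ia : ℕ) ≠ chevG2.simple (ib : ℕ) := by
  rw [chk_simple.1, chk_simple.2]; omega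

/-- A cell with trivial short negative part and a long positive part is covered. -/
theorem caseA {g y V u : GL chevG2.Idx F} (hy : y ∈ chevG2.group F)
    (hV : V ∈ good_G2.US F (negUpSet chevG2 ia)) (hu : u ∈ good_G2.US F upSetB) (c : Fˣ) {β : F}
    (hβ : β ≠ 0) (hg : y * g * y⁻¹ = V * G2Data.tab.hT F (tc c (c * c)) * (X 6 β * u)) :
    Cover (ell N) g := by
  have hN : N ≠ 1 := fun e => E.hN1 (by rw [e, Units.val_one])
  set φ := (good_G2.rankOne F ib).hom with hφ
  have h56 : negR chevG2 (chevG2.simple (ib : ℕ)) = 5 := by decide +kernel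
  have hX6 : ∀ r : F, φ (RankOne.eX r) = X 6 r := fun r => by
    rw [hφ, good_G2.hom_eX, chk_simple.2]; rfl
  have hX5 : ∀ r : F, φ (eL r) = X 5 r := fun r => by
    rw [hφ, good_G2.hom_eL, h56]; rfl
  set χ := G2Data.tab.chi (F := F) (chevG2.simple (ib : ℕ)) (tc c (c * c))
  set s := (1 - (N : F)) / β
  set k := scaleSL χ (RankOne.eX β * (eL s)⁻¹) with hk
  have ek : G2Data.tab.hT F (tc c (c * c)) * (X 6 β * (X 5 s)⁻¹) =
      φ k * G2Data.tab.hT F (tc c (c * c)) := by
    rw [hk, hφ, ← good_G2.hT_conj_hom, ← hφ, map_mul, hX6, map_inv, hX5]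
    group
  have e00 : k 0 0 = (N : F) := by
    show ((k : SL(2, F)) : Matrix (Fin 2) (Fin 2) F) 0 0 = _
    rw [hk, coe_scaleSL, Matrix.SpecialLinearGroup.coe_mul, Matrix.SpecialLinearGroup.coe_inv,
      RankOne.coe_eX, coe_eL, Matrix.adjugate_fin_two_of]
    simp [Matrix.mul_apply, Fin.sum_univ_two]
    show 1 + -(β * ((1 - (N : F)) / β)) = _
    field_simp
    ring
  have hdet := RankOne.det_eq k
  rw [e00] at hdet
  have ek2 : k = eL (k 1 0 / N) * RankOne.eH N * RankOne.eX (k 0 1 / N) := by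
    apply Subtype.ext
    show (k : Matrix (Fin 2) (Fin 2) F) = !![1, 0; k 1 0 / (N : F), 1] *
      !![(N : F), 0; 0, ((N⁻¹ : Fˣ) : F)] * !![1, k 0 1 / (N : F); 0, 1]
    ext x y
    fin_cases x <;> fin_cases y <;> simp [Matrix.mul_apply, Fin.sum_univ_two, e00] <;> field_simp
    linear_combination hdet
  have ephi : φ k = X 5 (k 1 0 / N) * G2Data.tab.hT F (tc 1 N) * X 6 (k 0 1 / N) := by
    rw [← single_ib, ← good_G2.hom_eH, ← hX5, ← hX6, ← map_mul, ← map_mul, ← ek2]
  have hu' : X 5 s * u * (X 5 s)⁻¹ ∈ good_G2.US F upSetB := by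
    have := good_G2.x_neg_simple_conj_Up ib s hu
    rw [h56] at this
    exact this
  set H := G2Data.tab.hT F (tc c (c * c))
  have hposR : H⁻¹ * X 6 (k 0 1 / N) * H * (X 5 s * u * (X 5 s)⁻¹) ∈ chevG2.posUnipotent F := by
    refine mul_mem ?_ (good_G2.Up_le_pos ib hu')
    have h6 : X 6 (k 0 1 / N) ∈ chevG2.posUnipotent F :=
      good_G2.x_mem_pos (r := 6) (chk_simple.2 ▸ good_G2.pos_simp ib) _
    have hH : H⁻¹ ∈ chevG2.diagonalSubgroup F := by
      refine inv_mem ?_
      rw [good_G2.full.diagonal_eq_range]; exact ⟨_, rfl⟩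
    simpa using
      (Subgroup.mem_normalizer_iff.mp (good_G2.diagonal_le_normalizer_pos hH) _).mp h6
  obtain ⟨q, a, ha, hqa⟩ := good_G2.pos_split_left ia hposR
  refine cover_trace h4 E (y := X 5 s * y) (mul_mem (good_G2.x_mem_group _ _) hy)
    (V := X 5 s * V * X 5 (k 1 0 / N))
    (mul_mem (mul_mem (X_mem_negUp (by decide) s) hV) (X_mem_negUp (by decide) _)) ha 0 q c
    (N * (c * c)) ?_ ?_
  · rw [show tc c (N * (c * c)) = tc 1 N * tc c (c * c) by rw [tc_mul, one_mul], map_mul,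
      good_G2.full.x_zero, mul_one, ← hqa]
    calc X 5 s * y * g * (X 5 s * y)⁻¹ = X 5 s * (y * g * y⁻¹) * (X 5 s)⁻¹ := by group
      _ = X 5 s * V * (H * (X 6 β * (X 5 s)⁻¹)) * (X 5 s * u * (X 5 s)⁻¹) := by rw [hg]; group
      _ = _ := by rw [ek, ephi]; simp only [H]; group
  · rw [cellMat, Matrix.trace_fin_two]
    simp only [Matrix.of_apply, Matrix.cons_val', Matrix.cons_val_zero, Matrix.cons_val_one,
      Matrix.empty_val', Matrix.cons_val_fin_one, Units.val_mul, zero_mul, zero_add]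
    intro hh
    apply E.hN1
    field_simp at hh
    have h1 : ((N : F) + 1) * (c : F) = 0 := by linear_combination hh
    have := (mul_eq_zero.mp h1).resolve_right c.ne_zero
    rw [← CharTwo.neg_eq (1 : F)]
    linear_combination this

/-- A cell with the two short coordinates below distinct is covered. -/
theorem caseB {g y a'' : GL chevG2.Idx F} (hy : y ∈ chevG2.group F) (a v1 v2 w γ : F) (c : Fˣ)
    (ha : a'' ∈ good_G2.US F upSet) (hne : γ ≠ w)
    (hg : y * g * y⁻¹ = lowN a v1 v2 w γ * G2Data.tab.hT F (tc c (c * c)) * (X 7 1 * a'')) :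
    Cover (ell N) g := by
  classical
  have hN : N ≠ 1 := fun e => E.hN1 (by rw [e, Units.val_one])
  set φ := (good_G2.rankOne F ib).hom with hφ
  have h56 : negR chevG2 (chevG2.simple (ib : ℕ)) = 5 := by decide +kernel
  have h47 : negR chevG2 (chevG2.simple (ia : ℕ)) = 4 := by decide +kernel
  have hX6 : ∀ r : F, φ (RankOne.eX r) = X 6 r := fun r => by
    rw [hφ, good_G2.hom_eX, chk_simple.2]; rfl
  have hX5 : ∀ r : F, φ (eL r) = X 5 r := fun r => by
    rw [hφ, good_G2.hom_eL, h56]; rfl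
  obtain ⟨s, hs0, hs1⟩ : ∃ s : F, s ≠ 0 ∧ 1 + s * γ ≠ 0 := by
    by_cases hγ : γ = 0
    · exact ⟨1, one_ne_zero, by rw [hγ, mul_zero, add_zero]; exact one_ne_zero⟩
    · obtain ⟨s, hs⟩ := Finset.exists_mem_notMem_of_card_lt_card
        (show ({0, -1 / γ} : Finset F).card < (Finset.univ : Finset F).card by
          rw [Finset.card_univ]
          exact lt_of_le_of_lt Finset.card_le_two (by omega))
      simp only [Finset.mem_insert, Finset.mem_singleton, not_or] at hs
      refine ⟨s, hs.2.1, fun e => hs.2.2 ?_⟩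
      rw [eq_div_iff hγ]
      linear_combination e
  set t : Fˣ := Units.mk0 _ hs1
  set k := RankOne.eX s * eL γ with hk
  have e00 : k 0 0 = (t : F) := by
    show ((k : SL(2, F)) : Matrix (Fin 2) (Fin 2) F) 0 0 = _
    rw [hk, Matrix.SpecialLinearGroup.coe_mul, RankOne.coe_eX, coe_eL]
    simp [Matrix.mul_apply, Fin.sum_univ_two, t]
  have hdet := RankOne.det_eq k
  rw [e00] at hdet
  have ek2 : k = eL (k 1 0 / t) * RankOne.eH t * RankOne.eX (k 0 1 / t) := by
    apply Subtype.ext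
    show (k : Matrix (Fin 2) (Fin 2) F) = !![1, 0; k 1 0 / (t : F), 1] *
      !![(t : F), 0; 0, ((t⁻¹ : Fˣ) : F)] * !![1, k 0 1 / (t : F); 0, 1]
    ext x y
    fin_cases x <;> fin_cases y <;> simp [Matrix.mul_apply, Fin.sum_univ_two, e00] <;> field_simp
    linear_combination hdet
  have ephi : X 6 s * X 5 γ = X 5 (k 1 0 / t) * G2Data.tab.hT F (tc 1 t) * X 6 (k 0 1 / t) := by
    rw [← single_ib, ← good_G2.hom_eH, ← hX5, ← hX5, ← hX6, ← hX6, ← map_mul, ← map_mul,
      ← map_mul, ← ek2]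
  set H := G2Data.tab.hT F (tc c (c * c)) with hH
  set e := s * w
  have hx4 : ∀ {b : GL chevG2.Idx F}, b ∈ good_G2.US F (negUpSet chevG2 ia) → ∀ r : F,
      X 4 r * b * (X 4 r)⁻¹ ∈ good_G2.US F (negUpSet chevG2 ia) := fun {b} hb r => by
    have := good_G2.x_conj_negUp nLong_act ia (Or.inr rfl) r hb
    rw [h47] at this
    exact this
  -- the part below
  obtain ⟨W, hW, hWe⟩ : ∃ W ∈ good_G2.US F (negUpSet chevG2 ia),
      X 6 s * (X 0 a * X 1 v1 * X 2 v2 * X 3 w) * (X 6 s)⁻¹ = W * X 4 e := by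
    refine ⟨X 0 a * X 1 (s * a) * X 1 v1 * X 2 v2 * X 3 w *
      (X 4 e * (X 2 (s * w ^ 2) * X 0 (s * w ^ 3)) * (X 4 e)⁻¹), ?_, ?_⟩
    · exact mul_mem (mul_mem (mul_mem (mul_mem (mul_mem (X_mem_negUp (by decide) _)
        (X_mem_negUp (by decide) _)) (X_mem_negUp (by decide) _)) (X_mem_negUp (by decide) _))
        (X_mem_negUp (by decide) _)) (hx4 (mul_mem (X_mem_negUp (by decide) _)
        (X_mem_negUp (by decide) _)) e)
    · calc X 6 s * (X 0 a * X 1 v1 * X 2 v2 * X 3 w) * (X 6 s)⁻¹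
          = (X 6 s * X 0 a * (X 6 s)⁻¹) * (X 6 s * X 1 v1 * (X 6 s)⁻¹) *
            (X 6 s * X 2 v2 * (X 6 s)⁻¹) * (X 6 s * X 3 w * (X 6 s)⁻¹) := by group
        _ = _ := by rw [e60, e61, e62, e63]; simp only [e]; group
  -- the part above
  set q6 := X 7 (1 : F) with hq6
  have hA : q6⁻¹ * (H⁻¹ * X 6 (k 0 1 / t) * H) * q6 * a'' * (X 6 s)⁻¹ ∈
      good_G2.US F upSet := by
    have h6 : ∀ r : F, X 6 r ∈ good_G2.US F upSet := fun r =>
      good_G2.x_mem_US (S := upSet) ⟨chk_simple.2 ▸ good_G2.pos_simp ib, by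
        rw [chk_simple.1]; omega⟩ r
    have h7 : q6⁻¹ * (H⁻¹ * X 6 (k 0 1 / t) * H) * q6 ∈ good_G2.US F upSet := by
      have h1 : H⁻¹ * X 6 (k 0 1 / t) * H ∈ good_G2.US F upSet := by
        have := good_G2.hT_conj_US upSet (fun m hm => hm.1.1) (tc c (c * c))⁻¹ (h6 (k 0 1 / t))
        simpa [map_inv, hH] using this
      have := good_G2.x_simple_conj_Up ia (-1) h1
      rw [chk_simple.1, ← good_G2.full.x_inv, inv_inv] at this
      exact this
    exact mul_mem (mul_mem h7 ha) (inv_mem (h6 s))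
  refine cover_trace h4 E (y := X 6 s * y) (mul_mem (good_G2.x_mem_group _ _) hy)
    (V := W * (X 4 e * X 5 (k 1 0 / t) * (X 4 e)⁻¹))
    (mul_mem hW (hx4 (X_mem_negUp (by decide) _) e)) hA e 1 c (t * (c * c)) ?_ ?_
  · rw [h47, chk_simple.1, show tc c (t * (c * c)) = tc 1 t * tc c (c * c) by
      rw [tc_mul, one_mul], map_mul]
    calc X 6 s * y * g * (X 6 s * y)⁻¹ = X 6 s * (y * g * y⁻¹) * (X 6 s)⁻¹ := by group
      _ = (X 6 s * (X 0 a * X 1 v1 * X 2 v2 * X 3 w) * (X 6 s)⁻¹) * (X 6 s * X 5 γ) * H *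
            q6 * a'' * (X 6 s)⁻¹ := by rw [hg]; simp only [lowN]; group
      _ = _ := by
        rw [hWe, ephi, hq6]
        simp only [X, H]
        group
  · rw [cellMat, Matrix.trace_fin_two]
    simp only [Matrix.of_apply, Matrix.cons_val', Matrix.cons_val_zero, Matrix.cons_val_one,
      Matrix.empty_val', Matrix.cons_val_fin_one, Units.val_mul, mul_one]
    intro hh
    apply hne
    field_simp at hh
    have h1 : (s * (γ + w)) * (c : F) = 0 := by
      have ht : (t : F) = 1 + s * γ := rfl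
      rw [ht] at hh
      linear_combination hh - (c : F) * (CharTwo.two_eq_zero : (2 : F) = 0)
    have h2 := (mul_eq_zero.mp ((mul_eq_zero.mp h1).resolve_right c.ne_zero)).resolve_left hs0
    rw [← CharTwo.neg_eq w]
    linear_combination h2

theorem four_cover {g : GL chevG2.Idx F} (hgm : g ∈ chevG2.group F) : Cover (ell N) g := by
  classical
  have hN : N ≠ 1 := fun e => E.hN1 (by rw [e, Units.val_one])
  obtain ⟨l, d, hc⟩ := exists_cell hgm
  obtain ⟨y, hy, V, hV, a, ha, w, q, hg⟩ := hc.split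
  by_cases hns : NS (cellMat w q l d)
  swap
  · exact cover_scalar h4 E hy hV ha w q l d hg hns
  by_cases hT : (cellMat w q l d).trace = 0
  swap
  · exact cover_trace h4 E hy hV ha w q l d hg hT
  -- bring the Levi part to upper triangular form
  obtain ⟨c, hc'⟩ : ∃ c : Fˣ, c * c = d := ⟨d * d, by
    obtain ⟨h3, hu⟩ := four_units h4 hN
    rcases hu d with rfl | rfl | rfl
    · simp
    · rw [← mul_assoc, ← pow_three', h3, one_mul]
    · calc N ^ 2 * N ^ 2 * (N ^ 2 * N ^ 2) = N ^ 3 * N ^ 3 * N ^ 2 := by group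
        _ = N ^ 2 := by rw [h3, one_mul, one_mul]⟩
  set M' : Matrix (Fin 2) (Fin 2) F := cellMat 0 1 c d with hM'
  have hM'0 : M' 0 1 = (c : F) := by simp [hM', cellMat]
  obtain ⟨P, hP⟩ := gl_conj
    (M := toGL M' (by rw [hM', det_cellMat]; exact d.ne_zero))
    (M' := toGL (cellMat w q l d) (by rw [det_cellMat]; exact d.ne_zero))
    (Or.inl (by rw [coe_toGL, hM'0]; exact c.ne_zero)) hns
    (by
      rw [coe_toGL, coe_toGL, hT, hM', cellMat, Matrix.trace_fin_two]
      simp [← hc', Units.val_mul, CharTwo.add_self_eq_zero])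
    (by rw [coe_toGL, coe_toGL, hM', det_cellMat, det_cellMat])
  have h7 : chevG2.simple (ia : ℕ) = 7 := chk_simple.1
  have h4' : negR chevG2 (chevG2.simple (ia : ℕ)) = 4 := by decide +kernel
  have hg1 : psi P * y * g * (psi P * y)⁻¹ = (psi P * V * (psi P)⁻¹) *
      G2Data.tab.hT F (tc c (c * c)) * (X 7 1 * (psi P * a * (psi P)⁻¹)) := by
    have e : psi P * psi (toGL (cellMat w q l d) (by rw [det_cellMat]; exact d.ne_zero)) *
        (psi P)⁻¹ = G2Data.tab.hT F (tc c (c * c)) * X 7 1 := by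
      rw [← map_inv, ← map_mul, ← map_mul, ← hP,
        psi_ldu 0 1 c d (g := toGL M' _) (coe_toGL _ _),
        good_G2.full.x_zero, one_mul, h7, hc']
      rfl
    rw [psi_ldu w q l d (g := toGL (cellMat w q l d) _) (coe_toGL _ _)] at e
    calc psi P * y * g * (psi P * y)⁻¹ = psi P * (y * g * y⁻¹) * (psi P)⁻¹ := by group
      _ = (psi P * V * (psi P)⁻¹) * (psi P * (good_G2.full.x (negR chevG2
            (chevG2.simple (ia : ℕ))) w * G2Data.tab.hT F (tc l d) *
          good_G2.full.x (chevG2.simple (ia : ℕ)) q) * (psi P)⁻¹) *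
          (psi P * a * (psi P)⁻¹) := by rw [hg]; group
      _ = _ := by rw [e]; group
  set y1 := psi P * y
  have hy1 : y1 ∈ chevG2.group F := mul_mem (psi_mem P) hy
  obtain ⟨a0, v1, v2, w0, γ, hV1⟩ := exists_lowN (psi_conj_negUp P hV)
  set a1 := psi P * a * (psi P)⁻¹
  have ha1 : a1 ∈ good_G2.US F upSet := psi_conj_up P ha
  set H := G2Data.tab.hT F (tc c (c * c)) with hH
  rw [hV1] at hg1
  -- the conjugates under the short root group
  have hz : ∀ z : F, γ + z * w0 + z ^ 2 * v2 + z ^ 3 * v1 ≠ w0 + z ^ 2 * v1 → Cover (ell N) g := by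
    intro z hzne
    obtain ⟨a', v1', v2', he⟩ := lowN_conj7 z a0 v1 v2 w0 γ
    have hcomm : X 7 z * H = H * X 7 z := by
      have := good_G2.full.hT_conj (F := F) (s := 7) (by show 7 < 12; omega) (tc c (c * c)) z
      have e1 : G2Data.tab.chi (F := F) 7 (tc c (c * c)) = 1 := by
        rw [← h7, chi_a, sq, mul_inv_cancel]
      rw [e1, Units.val_one, one_mul] at this
      exact (mul_inv_eq_iff_eq_mul.mp this).symm
    refine caseB h4 E (y := X 7 z * y1) (mul_mem (good_G2.x_mem_group _ _) hy1) a' v1' v2' _ _ c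
      (a'' := X 7 z * a1 * (X 7 z)⁻¹) ?_ hzne ?_
    · have := good_G2.x_simple_conj_Up ia z ha1
      rw [h7] at this
      exact this
    · rw [← he, ← hH]
      calc X 7 z * y1 * g * (X 7 z * y1)⁻¹ = X 7 z * (y1 * g * y1⁻¹) * (X 7 z)⁻¹ := by group
        _ = X 7 z * lowN a0 v1 v2 w0 γ * (X 7 z)⁻¹ * (X 7 z * H) *
            (X 7 1 * a1 * (X 7 z)⁻¹) := by rw [hg1]; group
        _ = X 7 z * lowN a0 v1 v2 w0 γ * (X 7 z)⁻¹ * H *
            ((X 7 z * X 7 1) * a1 * (X 7 z)⁻¹) := by rw [hcomm]; group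
        _ = _ := by rw [X_add, add_comm z 1, ← X_add]; group
  by_cases hall : ∀ z : F, γ + z * w0 + z ^ 2 * v2 + z ^ 3 * v1 = w0 + z ^ 2 * v1
  swap
  · push Not at hall
    obtain ⟨z, hzne⟩ := hall
    exact hz z hzne
  obtain ⟨h3, -⟩ := four_units h4 hN
  have hN3 : (N : F) ^ 3 = 1 := by rw [← Units.val_pow_eq_pow_val, h3, Units.val_one]
  have hsum : (N : F) ^ 2 + N + 1 = 0 := by
    have h1 : ((N : F) - 1) * ((N : F) ^ 2 + N + 1) = 0 := by linear_combination hN3
    exact (mul_eq_zero.mp h1).resolve_left (sub_ne_zero.mpr E.hN1)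
  have two : (2 : F) = 0 := CharTwo.two_eq_zero
  have f0 := hall 0
  have f1 := hall 1
  have fN := hall (N : F)
  have fN2 := hall ((N : F) ^ 2)
  have hγ : γ = w0 := by linear_combination f0
  have hv1 : v1 = 0 := by
    linear_combination f1 + fN + fN2 - 3 * f0 - w0 * hsum -
      (v2 - v1) * (hsum + (N : F) * hN3) - v1 * (1 + ((N : F) ^ 3 + 1)) * hN3 - v1 * two
  subst hv1
  have hv2w : v2 = -w0 := by linear_combination f1 - f0
  have hw0 : w0 = 0 := by
    have h1 : ((N : F) - (N : F) ^ 2) * w0 = 0 := by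
      linear_combination fN - f0 - (N : F) ^ 2 * hv2w
    rcases mul_eq_zero.mp h1 with hh | hh
    · exfalso
      refine E.hN1 (mul_left_cancel₀ N.ne_zero ?_).symm
      rw [mul_one]; linear_combination hh
    · exact hh
  subst hw0
  have hv20 : v2 = 0 := by rw [hv2w, neg_zero]
  subst hv20
  subst hγ
  have hlow : lowN a0 0 0 0 0 = X 0 a0 := by simp [lowN, X_zero]
  rw [hlow] at hg1
  have h6mem : ∀ r : F, X 6 r ∈ good_G2.US F upSet := fun r =>
    good_G2.x_mem_US (S := upSet) ⟨chk_simple.2 ▸ good_G2.pos_simp ib, by rw [h7]; omega⟩ r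
  by_cases ha0 : a0 = 0
  swap
  · -- create the long coordinate below
    have h10 : ∀ r : F, X 10 r ∈ good_G2.US F upSet := fun r =>
      good_G2.x_mem_US (S := upSet) ⟨⟨by show 10 < 12; omega, by show 12 ≤ 2 * 10; omega⟩,
        by rw [h7]; omega⟩ r
    refine caseB h4 E (y := X 10 1 * y1) (mul_mem (good_G2.x_mem_group _ _) hy1) a0 0 0 0 a0 c
      (a'' := (X 7 1)⁻¹ * (H⁻¹ * X 10 1 * H) * X 7 1 * a1 * (X 10 1)⁻¹) ?_ ha0 ?_
    · refine mul_mem (mul_mem ?_ ha1) (inv_mem (h10 1))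
      have h1 : H⁻¹ * X 10 1 * H ∈ good_G2.US F upSet := by
        have := good_G2.hT_conj_US upSet (fun m hm => hm.1.1) (tc c (c * c))⁻¹ (h10 1)
        simpa [map_inv, hH] using this
      have := good_G2.x_simple_conj_Up ia (-1) h1
      rw [h7, ← good_G2.full.x_inv, inv_inv] at this
      exact this
    · rw [show lowN a0 0 0 0 a0 = X 0 a0 * X 5 (1 * a0) by simp [lowN, X_zero], ← eA0, ← hH]
      calc X 10 1 * y1 * g * (X 10 1 * y1)⁻¹ = X 10 1 * (y1 * g * y1⁻¹) * (X 10 1)⁻¹ := by group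
        _ = _ := by rw [hg1]; group
  subst ha0
  rw [X_zero, one_mul] at hg1
  have hposa : X 7 1 * a1 ∈ chevG2.posUnipotent F :=
    mul_mem (good_G2.x_mem_pos (r := 7) (h7 ▸ good_G2.pos_simp ia) 1) (good_G2.Up_le_pos ia ha1)
  obtain ⟨β, u, hu, hβu⟩ := good_G2.pos_split_left ib hposa
  rw [chk_simple.2] at hβu
  change _ = X 6 β * u at hβu
  rw [hβu] at hg1
  by_cases hβ : β = 0
  swap
  · exact caseA h4 E hy1 (one_mem _) hu c hβ (by rw [one_mul, hg1])
  subst hβ
  rw [X_zero, one_mul] at hg1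
  have hu6 : ∀ r : F, X 6 r * u * (X 6 r)⁻¹ ∈ good_G2.US F upSetB := fun r => by
    have := good_G2.x_simple_conj_Up ib r hu
    rw [chk_simple.2] at this
    exact this
  by_cases hc1 : c = 1
  swap
  · have hchi : G2Data.tab.chi (F := F) 6 (tc c (c * c))⁻¹ = c⁻¹ := by
      rw [map_inv, ← chk_simple.2, chi_b, _root_.inv_inj, inv_mul_eq_iff_eq_mul, ← sq, ← pow_mul,
        ← pow_succ]
    have hchne : ((c⁻¹ : Fˣ) : F) - 1 ≠ 0 := sub_ne_zero.mpr fun e =>
      hc1 (inv_eq_one.mp (Units.ext (by rw [e, Units.val_one])))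
    have hmove : X 6 1 * H = H * X 6 ((c⁻¹ : Fˣ) : F) := by
      have := good_G2.full.hT_conj (F := F) (s := 6) (by show 6 < 12; omega) (tc c (c * c))⁻¹ 1
      rw [hchi, mul_one, map_inv, inv_inv] at this
      simp only [X]
      rw [← this, hH]
      group
    refine caseA h4 E (y := X 6 1 * y1) (mul_mem (good_G2.x_mem_group _ _) hy1) (one_mem _)
      (hu6 1) c hchne ?_
    rw [one_mul, ← hH, sub_eq_add_neg, ← X_add, ← X_inv]
    calc X 6 1 * y1 * g * (X 6 1 * y1)⁻¹ = X 6 1 * (y1 * g * y1⁻¹) * (X 6 1)⁻¹ := by group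
      _ = (X 6 1 * H) * u * (X 6 1)⁻¹ := by rw [hg1]; group
      _ = _ := by rw [hmove]; group
  subst hc1
  have hH1 : H = 1 := by
    rw [hH, one_mul, show tc (1 : Fˣ) 1 = (1 : Fin chevG2.rank → Fˣ) from
      (tc_eq (1 : Fin chevG2.rank → Fˣ)).symm, map_one]
  rw [hH1, one_mul] at hg1
  -- coordinates on the upper radical
  have hend : ∀ {y2 u2 : GL chevG2.Idx F}, y2 ∈ chevG2.group F → u2 ∈ good_G2.US F upSet →
      y2 * g * y2⁻¹ = u2 → Cover (ell N) g := by
    intro y2 u2 hy2 hu2 e2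
    refine cover_scalar h4 E hy2 (one_mem _) hu2 0 0 1 1 ?_ ?_
    · rw [e2, show tc (1 : Fˣ) 1 = (1 : Fin chevG2.rank → Fˣ) from
        (tc_eq (1 : Fin chevG2.rank → Fˣ)).symm, map_one, good_G2.full.x_zero,
        good_G2.full.x_zero]
      group
    · simp [NS, cellMat]
  set S3 : Set ℕ := {s | IsPos chevG2 s ∧ 9 ≤ s} with hS3
  have hS3cl : G2Data.tab.Closed S3 := good_G2.closed_above good_G2.closed_pos 9
  have hpS : ∀ s, s < 12 → 6 ≤ s → IsPos chevG2 s := fun s h1 h2 =>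
    ⟨h1, by show 12 ≤ 2 * s; omega⟩
  have hS3conj : ∀ s, IsPos chevG2 s → ∀ (r : F) {v : GL chevG2.Idx F}, v ∈ good_G2.US F S3 →
      X s r * v * (X s r)⁻¹ ∈ good_G2.US F S3 := fun s hs r v hv =>
    good_G2.conj_US_above good_G2.closed_pos hs r hv
  have hdec : ∀ v ∈ good_G2.US F upSetB, ∃ r r8 : F, ∃ R ∈ good_G2.US F S3,
      v = X 7 r * X 8 r8 * R := by
    intro v hv
    induction hv using Subgroup.closure_induction with
    | mem v hv =>
      obtain ⟨s, ⟨hs, hsne⟩, t, rfl⟩ := hv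
      have hs12 : s < 12 := hs.1
      have hs6 : 6 ≤ s := by
        have := hs.2
        change 12 ≤ 2 * s at this
        omega
      rw [chk_simple.2] at hsne
      change ∃ r r8 : F, ∃ R ∈ good_G2.US F S3, X s t = X 7 r * X 8 r8 * R
      by_cases h9 : 9 ≤ s
      · exact ⟨0, 0, X s t, good_G2.x_mem_US (S := S3) ⟨hs, h9⟩ t, by
          rw [X_zero, X_zero, one_mul, one_mul]⟩
      · obtain rfl | rfl : s = 7 ∨ s = 8 := by omega
        · exact ⟨t, 0, 1, one_mem _, by rw [X_zero, mul_one, mul_one]⟩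
        · exact ⟨0, t, 1, one_mem _, by rw [X_zero, one_mul, mul_one]⟩
    | one => exact ⟨0, 0, 1, one_mem _, by rw [X_zero, X_zero, one_mul, one_mul]⟩
    | mul p p' _ _ hp hp' =>
      obtain ⟨r, r8, R, hR, rfl⟩ := hp
      obtain ⟨r', r8', R', hR', rfl⟩ := hp'
      have h7p := hpS 7 (by omega) (by omega)
      have h8p := hpS 8 (by omega) (by omega)
      have k : (X 8 r8)⁻¹ * ((X 7 r')⁻¹ * X 8 r8 * X 7 r') ∈ good_G2.US F S3 := by
        have h78 : (8 : ℕ) ≠ 7 := by omega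
        have := good_G2.conj_pos (F := F) h7p h8p (-r') r8 (S := S3) (fun _ e he => by
          have hk := good_G2.comm_keys h7p h8p he
          refine ⟨hk.1, ?_⟩
          have := hk.2.2
          omega)
        simpa [X, ← good_G2.full.x_inv] using this
      set c8 := (X 8 r8)⁻¹ * ((X 7 r')⁻¹ * X 8 r8 * X 7 r')
      refine ⟨r + r', r8 + r8', (X 8 r8')⁻¹ * c8 * X 8 r8' *
        ((X 8 r8')⁻¹ * ((X 7 r')⁻¹ * R * X 7 r') * X 8 r8') * R', mul_mem (mul_mem ?_ ?_) hR', ?_⟩
      · simpa [X, good_G2.full.x_inv] using hS3conj 8 h8p (-r8') k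
      · have h1 := hS3conj 7 h7p (-r') hR
        have h2 := hS3conj 8 h8p (-r8') h1
        simpa [X, good_G2.full.x_inv] using h2
      · rw [← X_add, ← X_add]
        simp only [c8]
        group
    | inv p _ hp =>
      obtain ⟨r, r8, R, hR, rfl⟩ := hp
      have h7p := hpS 7 (by omega) (by omega)
      have h8p := hpS 8 (by omega) (by omega)
      have k : (X 8 (-r8))⁻¹ * (X 7 r * X 8 (-r8) * (X 7 r)⁻¹) ∈ good_G2.US F S3 := by
        exact good_G2.conj_pos (F := F) h7p h8p r (-r8) (S := S3) (fun _ e he => by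
          have hk := good_G2.comm_keys h7p h8p he
          refine ⟨hk.1, ?_⟩
          have := hk.2.2
          omega)
      refine ⟨-r, -r8, (X 8 (-r8))⁻¹ * (X 7 r * (R⁻¹) * (X 7 r)⁻¹) * X 8 (-r8) *
        ((X 8 (-r8))⁻¹ * (X 7 r * X 8 (-r8) * (X 7 r)⁻¹)), mul_mem ?_ k, ?_⟩
      · have h1 := hS3conj 7 h7p r (inv_mem hR)
        have h2 := hS3conj 8 h8p r8 h1
        simpa [X, good_G2.full.x_inv] using h2
      · simp only [← X_inv]
        group
  obtain ⟨r, r8, R, hR, rfl⟩ := hdec u hu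
  have hS3up : ∀ {v : GL chevG2.Idx F}, v ∈ good_G2.US F S3 → v ∈ good_G2.US F upSet :=
    fun hv => good_G2.US_mono (S' := upSet)
      (fun s hs => ⟨hs.1, by have := hs.2; rw [h7]; omega⟩) hv
  by_cases hr : r = 0
  · subst hr
    rw [X_zero, one_mul] at hg1
    refine hend hy1 (mul_mem ?_ (hS3up hR)) hg1
    exact good_G2.x_mem_US (S := upSet) ⟨hpS 8 (by omega) (by omega), by rw [h7]; omega⟩ r8
  · -- clear the second short coordinate and exchange
    have h6p := hpS 6 (by omega) (by omega)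
    set z := r8 / r with hzdef
    set R2 := X 9 (z * r ^ 2) * X 10 (z * r ^ 3) * (X 6 z * R * (X 6 z)⁻¹) with hR2
    have h9 : ∀ (s : ℕ) (t : F), s < 12 → 9 ≤ s → X s t ∈ good_G2.US F S3 := fun s t h1 h2 =>
      good_G2.x_mem_US (S := S3) ⟨hpS s h1 (by omega), h2⟩ t
    have e8 : (X 8 r8)⁻¹ * (X 9 (z * r ^ 2) * X 10 (z * r ^ 3)) * X 8 r8 ∈
        good_G2.US F S3 := by
      have := hS3conj 8 (hpS 8 (by omega) (by omega)) (-r8)
        (mul_mem (h9 9 (z * r ^ 2) (by omega) le_rfl) (h9 10 (z * r ^ 3) (by omega) (by omega)))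
      simpa [X, good_G2.full.x_inv] using this
    have hg2 : (X 6 z * y1) * g * (X 6 z * y1)⁻¹ = X 7 r *
        ((X 8 r8)⁻¹ * (X 9 (z * r ^ 2) * X 10 (z * r ^ 3)) * X 8 r8 *
          (X 6 z * R * (X 6 z)⁻¹)) := by
      calc (X 6 z * y1) * g * (X 6 z * y1)⁻¹ = X 6 z * (y1 * g * y1⁻¹) * (X 6 z)⁻¹ := by group
        _ = (X 6 z * X 7 r * (X 6 z)⁻¹) * (X 6 z * X 8 r8 * (X 6 z)⁻¹) *
            (X 6 z * R * (X 6 z)⁻¹) := by rw [hg1]; group
        _ = X 7 r * (X 8 (z * r) * ((X 9 (z * r ^ 2) * X 10 (z * r ^ 3)) * X 8 r8)) *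
            (X 6 z * R * (X 6 z)⁻¹) := by rw [e67, e68]; group
        _ = _ := by
          have hzr : z * r = r8 := div_mul_cancel₀ r8 hr
          have hneg : (X 8 r8)⁻¹ = X 8 r8 := by rw [X_inv, CharTwo.neg_eq]
          rw [hzr, hneg]
          group
    refine hend (y2 := good_G2.full.ns F (ib : ℕ) * (X 6 z * y1))
      (mul_mem (good_G2.ns_mem_group ib) (mul_mem (good_G2.x_mem_group _ _) hy1))
      (u2 := good_G2.full.ns F (ib : ℕ) * (X 7 r * ((X 8 r8)⁻¹ *
        (X 9 (z * r ^ 2) * X 10 (z * r ^ 3)) * X 8 r8 * (X 6 z * R * (X 6 z)⁻¹))) *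
        (good_G2.full.ns F (ib : ℕ))⁻¹) ?_ ?_
    · have hS' : X 7 r * ((X 8 r8)⁻¹ * (X 9 (z * r ^ 2) * X 10 (z * r ^ 3)) * X 8 r8 *
          (X 6 z * R * (X 6 z)⁻¹)) ∈
          good_G2.US F ({7, 9, 10, 11} : Set ℕ) := by
        refine mul_mem (good_G2.x_mem_US (S := ({7, 9, 10, 11} : Set ℕ)) (by simp) r)
          (good_G2.US_mono (fun s hs => ?_) (mul_mem e8 (hS3conj 6 h6p z hR)))
        have h1 : s < 12 := hs.1.1
        have h2 := hs.2
        simp only [Set.mem_insert_iff, Set.mem_singleton_iff]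
        omega
      refine good_G2.conj_x_act (good_G2.rootAct_ns ib) (fun s hs => ?_) hS'
      have key : ∀ s : Fin chevG2.nroots, s.val ∈ [7, 9, 10, 11] →
          6 ≤ G2Data.tab.reflT 1 s.val ∧ G2Data.tab.reflT 1 s.val ≠ 7 := by decide +kernel
      have hs12 : s < 12 := by
        simp only [Set.mem_insert_iff, Set.mem_singleton_iff] at hs
        omega
      refine ⟨hs12, ?_⟩
      obtain ⟨k1, k2⟩ := key ⟨s, hs12⟩ (by simpa using hs)
      exact ⟨hpS _ (Fin.isLt _) k1, by rw [h7]; exact k2⟩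
    · rw [← hg2]; group

end Four

theorem four (h : Fintype.card F = 4) [CharP F 2] :
    ∃ x ∈ chevG2.group F, x ^ 15 = 1 ∧ ∀ g ∈ chevG2.group F, g ≠ 1 → Cover x g := by
  classical
  obtain ⟨N, hN⟩ : ∃ N : Fˣ, N ≠ 1 := by
    haveI : Nontrivial Fˣ := Fintype.one_lt_card_iff_nontrivial.mp (by
      rw [Fintype.card_units, h]; omega)
    exact exists_ne 1
  obtain ⟨h3, hu⟩ := four_units h hN
  have hN1 : (N : F) ≠ 1 := fun e => hN (Units.ext (by rw [e, Units.val_one]))
  have hN3 : (N : F) ^ 3 = 1 := by rw [← Units.val_pow_eq_pow_val, h3, Units.val_one]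
  have hsum : (N : F) ^ 2 + N + 1 = 0 := by
    have h1 : ((N : F) - 1) * ((N : F) ^ 2 + N + 1) = 0 := by linear_combination hN3
    exact (mul_eq_zero.mp h1).resolve_left (sub_ne_zero.mpr hN1)
  have two : (2 : F) = 0 := CharTwo.two_eq_zero
  have E : EllData N 5 := by
    refine ⟨hN1, ?_, ?_, ?_⟩
    · rw [(ellGL_pow N).2.1]
      ext i j
      fin_cases i <;> fin_cases j <;> simp
      · linear_combination (3 : F) * hsum + (-(4 : F) * N - 1) * two
      · linear_combination hsum - (2 : F) * (N : F) * two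
      · linear_combination hsum - (2 : F) * (N : F) * two
      · linear_combination (((N : F) ^ 2 - (N : F)) : F) * two
    · intro r hr
      have hr0 : r ≠ 0 := fun e => N.ne_zero (by rw [e] at hr; linear_combination hr)
      rcases hu (Units.mk0 r hr0) with e | e | e <;> have e' := congrArg Units.val e <;>
        simp at e' <;> rw [e'] at hr
      · exact N.ne_zero (by linear_combination hr)
      · exact pow_ne_zero 2 N.ne_zero (by linear_combination hr)
      · exact pow_ne_zero 2 N.ne_zero (by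
          linear_combination hr - (N : F) * hN3 - (N : F) * two + (N : F) ^ 2 * two)
    · intro T hT
      rw [two, zero_mul] at hT
      obtain ⟨p, hp⟩ : ∃ p : F, p ^ 2 * T = (N : F) ^ 2 := by
        refine ⟨((N : F) ^ 2 / T) ^ 2, ?_⟩
        have h4' := FiniteField.pow_card ((N : F) ^ 2 / T)
        rw [h] at h4'
        rw [← pow_mul, h4', div_mul_cancel₀ _ hT]
      refine ⟨p, p / N, ?_⟩
      field_simp
      linear_combination hp + ((p : F) ^ 2 * N - p * N + N ^ 2) * two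
  exact ⟨ell N, psi_mem _, by simpa [h] using E.pow_eq_one, fun g hg _ => four_cover h E hg⟩

end CfsgLib.OreG2
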