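import Cfsg.Agent.OreG2.Basic
import Mathlib.FieldTheory.Finite.Basic
import Mathlib.RingTheory.IntegralDomain

/-!
`G₂(q)`, `q ≥ 7`: a regular element of the split torus.
-/

set_option autoImplicit false
set_option linter.style.haveILetI false

namespace CfsgLib.OreG2

open Cfsg.Lie Matrix CfsgLib.Chev CfsgLib.Chev.Tab
open scoped MatrixGroups

variable {F : Type*} [Field F] [Fintype F]

theorem cent_pos_eq_one {z : Fin chevG2.rank → Fˣ}
    (hz : ∀ s, IsPos chevG2 s → G2Data.tab.chi (F := F) s z ≠ 1) {u : GL chevG2.Idx F}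
    (hu : u ∈ good_G2.US F {s | IsPos chevG2 s})
    (h : G2Data.tab.hT F z * u = u * G2Data.tab.hT F z) : u = 1 := by
  have h' : G2Data.tab.hT F z * u * (G2Data.tab.hT F z)⁻¹ = u := by rw [h]; group
  have := (good_G2.fixed_US good_G2.closed_pos z hu).mp h'
  have e : {s | s ∈ {s | IsPos chevG2 s} ∧ G2Data.tab.chi (F := F) s z = 1} = (∅ : Set ℕ) :=
    Set.eq_empty_of_forall_notMem fun s hs => hz s hs.1 hs.2
  rw [e] at this
  clear h h' hu
  induction this using Subgroup.closure_induction with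
  | mem g hg => obtain ⟨r, hr, -⟩ := hg; exact absurd hr (Set.notMem_empty r)
  | one => rfl
  | mul a b _ _ ha hb => simp [ha, hb]
  | inv a _ ha => simp [ha]

theorem long_conj_pos {v : GL chevG2.Idx F} (hv : v ∈ chevG2.negUnipotent F) :
    (nLong F)⁻¹ * v * nLong F ∈ chevG2.posUnipotent F := by
  rw [good_G2.negUnipotent_eq] at hv
  rw [good_G2.posUnipotent_eq]
  have key : ∀ {w : GL chevG2.Idx F},
      w ∈ good_G2.US F {r | r < chevG2.nroots ∧ ¬ chevG2.nroots ≤ 2 * r} →
      (nLong F)⁻¹ * w * (nLong F)⁻¹⁻¹ ∈ good_G2.US F {r | IsPos chevG2 r} := by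
    intro w hw
    refine good_G2.conj_US _ (fun r hr t => ?_) hw
    obtain ⟨c, hc⟩ := nLong_act (F := F)
    set s := negF (⟨r, hr.1⟩ : Fin chevG2.nroots)
    have e := (hc s).2.2.2 ((((c s)⁻¹ : Fˣ) : F) * t)
    rw [← mul_assoc (c s : F), Units.mul_inv, one_mul,
      show negPerm chevG2 s = ⟨r, hr.1⟩ from negF_negF _] at e
    rw [inv_inv, ← e]
    have hs : IsPos chevG2 s.val := by
      rw [good_G2.pos_negF]; exact fun h => hr.2 h.2
    simpa [mul_assoc] using good_G2.x_mem_US (S := {r | IsPos chevG2 r}) hs _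
  simpa using key hv

/-- A cell whose torus part is a product of the prescribed regular elements is covered. -/
theorem cover_cell {z : Fin chevG2.rank → Fˣ}
    (hz : ∀ s, IsPos chevG2 s → G2Data.tab.chi (F := F) s z ≠ 1) {g : GL chevG2.Idx F}
    {e : Fin chevG2.rank → Fˣ} (he : e = z ∨ e = z⁻¹) (h : Cell g (z * e)) :
    Cover (G2Data.tab.hT F z) g := by
  classical
  set x := G2Data.tab.hT F z
  obtain ⟨y, hy, v, hv, u, hu, hg⟩ := h
  refine Cover.of_conj hy ?_
  have hxH : ∀ c : Fin chevG2.rank → Fˣ, G2Data.tab.hT F c ∈ chevG2.diagonalSubgroup F :=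
    fun c => by rw [good_G2.full.diagonal_eq_range]; exact ⟨c, rfl⟩
  -- the left factor
  have hfixN : ∀ w ∈ chevG2.negUnipotent F, x * w = w * x → w = 1 := by
    intro w hw hc
    have hn := good_G2.hT_conj_longest nLong_act nLong_mem_monomial (F := F) z⁻¹
    rw [inv_inv] at hn
    have hp := long_conj_pos hw
    have : (nLong F)⁻¹ * w * nLong F = 1 := by
      rw [good_G2.posUnipotent_eq] at hp
      refine cent_pos_eq_one hz hp ?_
      have hx' : G2Data.tab.hT F z⁻¹ = (nLong F)⁻¹ * x * nLong F := by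
        rw [show x = G2Data.tab.hT F z from rfl, ← hn]; group
      have h1 : G2Data.tab.hT F z⁻¹ * ((nLong F)⁻¹ * w * nLong F) =
          (nLong F)⁻¹ * w * nLong F * G2Data.tab.hT F z⁻¹ := by
        rw [hx']
        calc (nLong F)⁻¹ * x * nLong F * ((nLong F)⁻¹ * w * nLong F)
            = (nLong F)⁻¹ * (x * w) * nLong F := by group
          _ = _ := by rw [hc]; group
      rw [map_inv] at h1
      calc x * ((nLong F)⁻¹ * w * nLong F)
          = x * (((nLong F)⁻¹ * w * nLong F) * x⁻¹) * x := by group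
        _ = x * (x⁻¹ * ((nLong F)⁻¹ * w * nLong F)) * x := by rw [h1]
        _ = _ := by simp only [x]; group
    calc w = nLong F * ((nLong F)⁻¹ * w * nLong F) * (nLong F)⁻¹ := by group
      _ = 1 := by rw [this]; group
  have hnormN : ∀ w ∈ chevG2.negUnipotent F, x * w * x⁻¹ ∈ chevG2.negUnipotent F := fun w hw =>
    (Subgroup.mem_normalizer_iff.mp (good_G2.diagonal_le_normalizer_neg (hxH z)) w).mp hw
  obtain ⟨a, haN, hax⟩ := exists_conj_mul_left (chevG2.negUnipotent F) hnormN hfixN hv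
  -- the right factor
  have hfixP : ∀ w ∈ chevG2.posUnipotent F, x * w = w * x → w = 1 := fun w hw hc =>
    cent_pos_eq_one hz (good_G2.posUnipotent_eq (F := F) ▸ hw) hc
  have hnormP : ∀ c : Fin chevG2.rank → Fˣ, ∀ w ∈ chevG2.posUnipotent F,
      G2Data.tab.hT F c * w * (G2Data.tab.hT F c)⁻¹ ∈ chevG2.posUnipotent F := fun c w hw =>
    (Subgroup.mem_normalizer_iff.mp (good_G2.diagonal_le_normalizer_pos (hxH c)) w).mp hw
  obtain ⟨k, hk, hke⟩ : ∃ k ∈ chevG2.group F, G2Data.tab.hT F e * u = k * x * k⁻¹ := by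
    have hle : chevG2.posUnipotent F ≤ chevG2.group F := fun w hw =>
      good_G2.borel_le_group (Tab.Good.pos_le_borel good_G2 hw)
    rcases he with he | he <;> rw [he]
    · obtain ⟨b, hb, hbe⟩ := exists_conj_mul_right (chevG2.posUnipotent F) (x := x)
        (fun w hw => by simpa [map_inv] using hnormP z⁻¹ w hw) hfixP hu
      exact ⟨b, hle hb, hbe⟩
    · obtain ⟨b, hb, hbe⟩ := exists_conj_mul_right (chevG2.posUnipotent F)
        (x := G2Data.tab.hT F z⁻¹)
        (fun w hw => by simpa [map_inv] using hnormP z w hw)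
        (fun w hw hc => hfixP w hw (by
          rw [map_inv] at hc
          calc x * w = x * (w * x⁻¹) * x := by group
            _ = x * (x⁻¹ * w) * x := by rw [hc]
            _ = w * x := by group)) hu
      refine ⟨b * nLong F, mul_mem (hle hb) nLong_mem, ?_⟩
      rw [hbe, ← good_G2.hT_conj_longest nLong_act nLong_mem_monomial z]
      simp only [x]
      group
  have hle : chevG2.negUnipotent F ≤ chevG2.group F := fun w hw => by
    rw [← good_G2.pos_sup_neg]; exact Subgroup.mem_sup_right hw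
  refine ⟨a, hle haN, k, hk, ?_⟩
  rw [hg, map_mul, ← hax, ← hke]
  simp only [x]
  group

/-- Some cube differs from a given element. -/
theorem exists_cube_ne (h5 : 5 ≤ Fintype.card F) (d : Fˣ) : ∃ l : Fˣ, l ^ 3 ≠ d := by
  by_contra hc
  push Not at hc
  obtain ⟨ζ, hζ⟩ := IsCyclic.exists_generator (α := Fˣ)
  have h1 : ζ ^ 3 = 1 := by rw [hc ζ, ← hc 1, one_pow]
  have hord := orderOf_eq_card_of_forall_mem_zpowers hζ
  rw [Nat.card_units, Nat.card_eq_fintype_card] at hord
  have := orderOf_le_of_pow_eq_one (by norm_num) h1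
  omega

theorem large (h7 : 7 ≤ Fintype.card F) :
    ∃ x ∈ chevG2.group F, x ^ (Fintype.card F - 1) = 1 ∧
      ∀ g ∈ chevG2.group F, g ≠ 1 → Cover x g := by
  classical
  obtain ⟨ζ, hζ⟩ := IsCyclic.exists_generator (α := Fˣ)
  have hord : orderOf ζ = Fintype.card F - 1 := by
    rw [orderOf_eq_card_of_forall_mem_zpowers hζ, Nat.card_units, Nat.card_eq_fintype_card]
  set j : ℕ := if Fintype.card F = 11 then 2 else 1 with hj
  set z0 := ζ ^ (2 + j) with hz0
  set z1 := ζ ^ (3 + 2 * j) with hz1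
  have hne : ∀ n : ℕ, n ≠ 0 → n < Fintype.card F - 1 → ζ ^ n ≠ 1 := fun n h0 hlt h =>
    absurd (orderOf_le_of_pow_eq_one (Nat.pos_of_ne_zero h0) h) (by omega)
  have hj' : (j = 1 ∧ Fintype.card F ≠ 11) ∨ (j = 2 ∧ Fintype.card F = 11) := by
    by_cases h : Fintype.card F = 11 <;> simp [hj, h]
  have hj7 : 3 + 2 * j < Fintype.card F - 1 := by omega
  have hreg : ∀ s, IsPos chevG2 s → G2Data.tab.chi (F := F) s (tc z0 z1) ≠ 1 := by
    intro s hs
    have hs' : 6 ≤ s ∧ s < 12 := ⟨by
      have := hs.2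
      change 12 ≤ 2 * s at this
      omega, hs.1⟩
    have key : ∀ (a b : ℤ) (n : ℕ), (s, a, b) ∈ ([(6, -3, 2), (7, 2, -1), (8, -1, 1), (9, 1, 0),
        (10, 3, -1), (11, 0, 1)] : List (ℕ × ℤ × ℤ)) →
        ((2 + j : ℕ) : ℤ) * a + ((3 + 2 * j : ℕ) : ℤ) * b = n → n ≠ 0 → n < Fintype.card F - 1 →
        G2Data.tab.chi (F := F) s (tc z0 z1) ≠ 1 := by
      intro a b n h e h0 hlt
      rw [chi_tc h, hz0, hz1, ← zpow_natCast, ← zpow_natCast ζ (3 + 2 * j), ← _root_.zpow_mul,
        ← _root_.zpow_mul, ← _root_.zpow_add, e, zpow_natCast]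
      exact hne n h0 hlt
    obtain ⟨h1, h2⟩ := hs'
    interval_cases s
    · exact key (-3) 2 j (by decide) (by push_cast; ring) (by omega) (by omega)
    · exact key 2 (-1) 1 (by decide) (by push_cast; ring) (by omega) (by omega)
    · exact key (-1) 1 (1 + j) (by decide) (by push_cast; ring) (by omega) (by omega)
    · exact key 1 0 (2 + j) (by decide) (by push_cast; ring) (by omega) (by omega)
    · exact key 3 (-1) (3 + j) (by decide) (by push_cast; ring) (by omega) (by omega)
    · exact key 0 1 (3 + 2 * j) (by decide) (by push_cast; ring) (by omega) (by omega)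
  have hD : (z1 * z1) ^ 1 ≠ 1 := by
    rw [pow_one, hz1, ← pow_add]
    intro h
    have hdvd := orderOf_dvd_of_pow_eq_one h
    rw [hord] at hdvd
    rcases hj' with ⟨rfl', h11⟩ | ⟨rfl', h11⟩
    · rw [rfl'] at hdvd
      have := Nat.le_of_dvd (by norm_num) hdvd
      have h10 : Fintype.card F - 1 = 6 ∨ Fintype.card F - 1 = 7 ∨ Fintype.card F - 1 = 8 ∨
          Fintype.card F - 1 = 9 ∨ Fintype.card F - 1 = 10 := by omega
      rcases h10 with e | e | e | e | e <;> rw [e] at hdvd <;> omega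
    · rw [rfl', h11] at hdvd
      omega
  rw [pow_one] at hD
  refine ⟨G2Data.tab.hT F (tc z0 z1), hT_mem _, ?_, fun g hg _ => ?_⟩
  · rw [← map_pow, show tc z0 z1 ^ (Fintype.card F - 1) = (1 : Fin chevG2.rank → Fˣ) from
      funext fun i => by
        rw [Pi.pow_apply, Pi.one_apply, ← Nat.card_eq_fintype_card (α := F), ← Nat.card_units]
        exact pow_card_eq_one', map_one]
  have h5 : 5 ≤ Fintype.card F := by omega
  -- reduce to a cell with nontrivial long root value
  obtain ⟨l, d, hc⟩ := exists_cell hg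
  have hgo : ∀ l d : Fˣ, Cell g (tc l d) → (l ^ 3)⁻¹ * d ^ 2 ≠ 1 →
      Cover (G2Data.tab.hT F (tc z0 z1)) g := by
    intro l d h hb
    by_cases hl : l ^ 2 = 1
    · have h1 := cell_move_b (by omega) h hb (z1 * z1)
      have h2 := cell_move_a (by omega) h1 (by
        rw [hl, one_mul, Ne, inv_eq_one]; exact hD) (z0 * z0)
      exact cover_cell hreg (Or.inl rfl) (by rw [tc_mul]; exact h2)
    · have h1 := cell_move_b (by omega) h hb 1
      have h2 := cell_move_a (by omega) h1 (by simpa using hl) 1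
      refine cover_cell hreg (Or.inr rfl) ?_
      rw [mul_inv_cancel]
      rwa [show tc (1 : Fˣ) 1 = (1 : Fin chevG2.rank → Fˣ) from (tc_eq (1 : Fin chevG2.rank → Fˣ)).symm] at h2
  by_cases hb : (l ^ 3)⁻¹ * d ^ 2 = 1
  · by_cases ha : l ^ 2 * d⁻¹ = 1
    · refine cover_cell hreg (Or.inr rfl) ?_
      rw [mul_inv_cancel]
      have hd : d = l ^ 2 := (mul_inv_eq_one.mp ha).symm
      rw [hd] at hb
      have hl : l = 1 := by
        have : l ^ 4 = l ^ 3 := by
          rw [← pow_mul] at hb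
          exact (inv_mul_eq_one.mp hb).symm
        exact mul_left_cancel (a := l ^ 3) (by rw [← pow_succ, mul_one]; exact this)
      subst hl
      rw [one_pow] at hd
      subst hd
      rwa [show tc (1 : Fˣ) 1 = (1 : Fin chevG2.rank → Fˣ) from (tc_eq (1 : Fin chevG2.rank → Fˣ)).symm] at hc
    · obtain ⟨l', hl'⟩ := exists_cube_ne h5 (d ^ 2)
      exact hgo l' d (cell_move_a (by omega) hc ha l') fun h => hl' (inv_mul_eq_one.mp h)
  · exact hgo l d hc hb

end CfsgLib.OreG2
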