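import Cfsg.Agent.OreG2.Basic
import Cfsg.Agent.OreG2.GLTwo

/-!
The Levi subgroup `GL₂` of the short fundamental root of `G₂(q)` and its elliptic element.
-/

set_option autoImplicit false
set_option linter.style.haveILetI false

namespace CfsgLib.OreG2

open Cfsg.Lie Matrix CfsgLib.Chev CfsgLib.Chev.Tab
open scoped MatrixGroups

variable {F : Type*} [Field F]

/-- The determinant one part of an invertible matrix. -/
noncomputable def slPart (g : GL (Fin 2) F) : SL(2, F) :=
  ⟨!![(g : Matrix (Fin 2) (Fin 2) F) 0 0 * ((g : Matrix (Fin 2) (Fin 2) F).det)⁻¹,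
      (g : Matrix (Fin 2) (Fin 2) F) 0 1;
      (g : Matrix (Fin 2) (Fin 2) F) 1 0 * ((g : Matrix (Fin 2) (Fin 2) F).det)⁻¹,
      (g : Matrix (Fin 2) (Fin 2) F) 1 1], by
    have h : (g : Matrix (Fin 2) (Fin 2) F).det ≠ 0 :=
      (Matrix.isUnit_iff_isUnit_det _).mp g.isUnit |>.ne_zero
    set M := (g : Matrix (Fin 2) (Fin 2) F)
    have e := Matrix.det_fin_two M
    rw [Matrix.det_fin_two_of]
    calc _ = (M 0 0 * M 1 1 - M 0 1 * M 1 0) * M.det⁻¹ := by ring
      _ = 1 := by rw [← e, mul_inv_cancel₀ h]⟩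

theorem coe_slPart (g : GL (Fin 2) F) : (slPart g : Matrix (Fin 2) (Fin 2) F) =
    !![(g : Matrix (Fin 2) (Fin 2) F) 0 0 * ((g : Matrix (Fin 2) (Fin 2) F).det)⁻¹,
      (g : Matrix (Fin 2) (Fin 2) F) 0 1;
      (g : Matrix (Fin 2) (Fin 2) F) 1 0 * ((g : Matrix (Fin 2) (Fin 2) F).det)⁻¹,
      (g : Matrix (Fin 2) (Fin 2) F) 1 1] := rfl

/-- The torus map of the short root's Levi. -/
noncomputable def hd (d : Fˣ) : GL chevG2.Idx F := G2Data.tab.hT F (tc d d)

/-- The Levi subgroup of the short fundamental root as an image of `GL₂`. -/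
noncomputable def psi : GL (Fin 2) F →* GL chevG2.Idx F :=
  MonoidHom.mk' (fun g => (good_G2.rankOne F ia).hom (slPart g) *
    hd (Matrix.GeneralLinearGroup.det g)) fun g k => by
    set D := Matrix.GeneralLinearGroup.det g
    have e : slPart (g * k) = slPart g * scaleSL D (slPart k) := by
      apply Subtype.ext
      rw [Matrix.SpecialLinearGroup.coe_mul, coe_slPart, coe_slPart, coe_scaleSL, coe_slPart,
        Matrix.GeneralLinearGroup.coe_mul, Matrix.det_mul]
      have hD : (D : F) = (g : Matrix (Fin 2) (Fin 2) F).det := rfl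
      have hg : (g : Matrix (Fin 2) (Fin 2) F).det ≠ 0 := by rw [← hD]; exact D.ne_zero
      have hk : (k : Matrix (Fin 2) (Fin 2) F).det ≠ 0 :=
        (Matrix.isUnit_iff_isUnit_det _).mp k.isUnit |>.ne_zero
      rw [hD]
      generalize (g : Matrix (Fin 2) (Fin 2) F).det = dg at hg ⊢
      generalize (k : Matrix (Fin 2) (Fin 2) F).det = dk at hk ⊢
      ext i j
      fin_cases i <;> fin_cases j <;> simp [Matrix.mul_apply, Fin.sum_univ_two] <;> field_simp
    have hchi : G2Data.tab.chi (chevG2.simple (ia : ℕ)) (tc D D) = D := by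
      rw [chi_a, sq, mul_inv_cancel_right]
    show _ = _ * hd D * (_ * hd _)
    rw [e, map_mul, map_mul, hd, hd, hd]
    have h := good_G2.hT_conj_hom (F := F) ia (tc D D) (slPart k)
    rw [hchi] at h
    rw [← h, show tc (D * Matrix.GeneralLinearGroup.det k) (D * Matrix.GeneralLinearGroup.det k) =
      tc D D * tc _ _ from (tc_mul _ _ _ _).symm, map_mul]
    group

theorem psi_apply (g : GL (Fin 2) F) :
    psi g = (good_G2.rankOne F ia).hom (slPart g) * hd (Matrix.GeneralLinearGroup.det g) := rfl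

/-- An invertible matrix from its determinant. -/
noncomputable def toGL (M : Matrix (Fin 2) (Fin 2) F) (h : M.det ≠ 0) : GL (Fin 2) F :=
  Matrix.GeneralLinearGroup.mkOfDetNeZero M h

theorem coe_toGL (M : Matrix (Fin 2) (Fin 2) F) (h : M.det ≠ 0) :
    (toGL M h : Matrix (Fin 2) (Fin 2) F) = M := rfl

/-- The image of a lower-diagonal-upper product. -/
theorem psi_ldu (w q : F) (l d : Fˣ) {g : GL (Fin 2) F}
    (hg : (g : Matrix (Fin 2) (Fin 2) F) =
      !![(l : F), l * q; w * l, w * l * q + d / l]) :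
    psi g = good_G2.full.x (negR chevG2 (chevG2.simple (ia : ℕ))) w * G2Data.tab.hT F (tc l d) *
      good_G2.full.x (chevG2.simple (ia : ℕ)) q := by
  have hdet : Matrix.GeneralLinearGroup.det g = d := Units.ext (by
    show (g : Matrix (Fin 2) (Fin 2) F).det = _
    rw [hg, Matrix.det_fin_two_of]
    field_simp
    ring)
  have hdF : (g : Matrix (Fin 2) (Fin 2) F).det = (d : F) := congrArg Units.val hdet
  have e : slPart g = eL w * RankOne.eH (l * d⁻¹) * RankOne.eX ((d : F) * q) := by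
    apply Subtype.ext
    rw [Matrix.SpecialLinearGroup.coe_mul, Matrix.SpecialLinearGroup.coe_mul, coe_eL,
      RankOne.coe_eH, RankOne.coe_eX, coe_slPart, hdF, hg]
    ext i j
    fin_cases i <;> fin_cases j <;> simp [Matrix.mul_apply, Fin.sum_univ_two] <;> field_simp
  rw [psi_apply, hdet, e, map_mul, map_mul, good_G2.hom_eL, good_G2.hom_eH, good_G2.hom_eX]
  have h := good_G2.full.hT_conj (F := F) (good_G2.full.simple_lt (ia : Fin chevG2.rank).isLt)
    (tc d d) q
  rw [chi_a, show d ^ 2 * d⁻¹ = d by rw [sq, mul_inv_cancel_right]] at h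
  rw [← h, hd, single_ia, show tc l d = tc (l * d⁻¹) 1 * tc d d by
    rw [tc_mul, one_mul, inv_mul_cancel_right], map_mul]
  group

theorem psi_mem (g : GL (Fin 2) F) : psi g ∈ chevG2.group F :=
  mul_mem (good_G2.hom_mem_of_x ia (fun r => good_G2.x_mem_group _ r)
    (fun r => good_G2.x_mem_group _ r) _) (hT_mem _)

/-- The positive roots other than the short fundamental root. -/
abbrev upSet : Set ℕ := {s | IsPos chevG2 s ∧ s ≠ chevG2.simple (ia : ℕ)}

theorem psi_conj_up (g : GL (Fin 2) F) {a : GL chevG2.Idx F} (ha : a ∈ good_G2.US F upSet) :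
    psi g * a * (psi g)⁻¹ ∈ good_G2.US F upSet := by
  rw [psi_apply]
  have h1 : hd (Matrix.GeneralLinearGroup.det g) * a * (hd (Matrix.GeneralLinearGroup.det g))⁻¹ ∈
      good_G2.US F upSet := good_G2.hT_conj_US upSet (fun s hs => hs.1.1) _ ha
  simpa [mul_assoc] using good_G2.hom_conj_Up ia (slPart g) h1

theorem psi_conj_negUp (g : GL (Fin 2) F) {a : GL chevG2.Idx F}
    (ha : a ∈ good_G2.US F (negUpSet chevG2 ia)) :
    psi g * a * (psi g)⁻¹ ∈ good_G2.US F (negUpSet chevG2 ia) := by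
  rw [psi_apply]
  have h1 : hd (Matrix.GeneralLinearGroup.det g) * a * (hd (Matrix.GeneralLinearGroup.det g))⁻¹ ∈
      good_G2.US F (negUpSet chevG2 ia) := good_G2.hT_conj_US _ (fun s hs => hs.1) _ ha
  simpa [mul_assoc] using good_G2.hom_conj_negUp nLong_act ia (slPart g) h1

theorem long_conj_negUp {a : GL chevG2.Idx F} (ha : a ∈ good_G2.US F (negUpSet chevG2 ia)) :
    nLong F * a * (nLong F)⁻¹ ∈ good_G2.US F upSet :=
  good_G2.conj_x_act nLong_act (S' := upSet) (fun s hs => ⟨hs.1,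
    (good_G2.pos_negF (s := ⟨s, hs.1⟩)).mpr hs.2.1, fun h => hs.2.2 (by
      rw [← Cert.negR_negR hs.1]; exact congrArg (negR chevG2) h)⟩) ha

theorem chk_commute11 : ([(11, 4), (11, 7)] : List (ℕ × ℕ)).all
    (fun e => decide (G2Data.tab.commT e.1 e.2 = [])) = true := by decide +kernel

theorem x11_commute (r : ℕ) (hr : r = 4 ∨ r = 7) (t u : F) :
    good_G2.full.x 11 t * good_G2.full.x r u = good_G2.full.x r u * good_G2.full.x 11 t := by
  have h := List.all_eq_true.mp chk_commute11 (11, r) (by rcases hr with rfl | rfl <;> decide)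
  simp only [decide_eq_true_eq] at h
  have h11 : (11 : ℕ) < chevG2.nroots := by decide +kernel
  have hn : negR chevG2 11 = 0 := by decide +kernel
  have hrlt : r < chevG2.nroots := lt_trans (by omega) h11
  have e := good_G2.full.x_comm (r := 11) (s := r) h11 hrlt (by omega) (by omega) t u
  rw [good_G2.full.cert.commWord_eq h11 hrlt, h] at e
  simpa [rhsWord] using e.symm

theorem hom_commute11 (g : SL(2, F)) (t : F) :
    (good_G2.rankOne F ia).hom g * good_G2.full.x 11 t =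
      good_G2.full.x 11 t * (good_G2.rankOne F ia).hom g := by
  have h : (good_G2.rankOne F ia).hom g ∈ Subgroup.centralizer {good_G2.full.x 11 t} := by
    refine good_G2.hom_mem_of_x ia (fun r => ?_) (fun r => ?_) g
    · rw [Subgroup.mem_centralizer_singleton_iff, chk_simple.1]
      exact (x11_commute 7 (Or.inr rfl) t r).symm
    · rw [Subgroup.mem_centralizer_singleton_iff, chk_simple.1,
        show negR chevG2 7 = 4 by decide +kernel]
      exact (x11_commute 4 (Or.inl rfl) t r).symm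
  exact Subgroup.mem_centralizer_singleton_iff.mp h

theorem closed_upSet : G2Data.tab.Closed upSet := by
  have h := good_G2.closed_keep [ia]
  rw [good_G2.pw_singleton, good_G2.keep_refl] at h
  exact h

section Elliptic

variable [Fintype F] (N : Fˣ) (hN1 : (N : F) ≠ 1) (k : ℕ)

/-- The elliptic element in `GL₂`. -/
noncomputable def ellGL : GL (Fin 2) F :=
  toGL !![1, -(N : F); 1, 0] (by simp [Matrix.det_fin_two_of, N.ne_zero])

theorem coe_ellGL : (ellGL N : Matrix (Fin 2) (Fin 2) F) = !![1, -(N : F); 1, 0] := rfl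

/-- The elliptic element. -/
noncomputable def ell : GL chevG2.Idx F := psi (ellGL N)

theorem psi_scalar {g : GL (Fin 2) F} (c : Fˣ)
    (hg : (g : Matrix (Fin 2) (Fin 2) F) = (c : F) • 1) :
    psi g = G2Data.tab.hT F (tc c (c * c)) := by
  rw [psi_ldu 0 0 c (c * c) (g := g) (by
    rw [hg]; ext i j; fin_cases i <;> fin_cases j <;> simp), good_G2.full.x_zero,
    good_G2.full.x_zero, one_mul, mul_one]

variable {N k}
include hN1

theorem cent_ell_up (hk : ((ellGL N : GL (Fin 2) F) ^ k : GL (Fin 2) F).val = (N : F) • 1)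
    {u : GL chevG2.Idx F} (hu : u ∈ good_G2.US F upSet) (h : ell N * u = u * ell N) : u = 1 := by
  have hpow : (ell N) ^ k * u = u * (ell N) ^ k := (Commute.pow_left h k).eq
  rw [ell, ← map_pow, psi_scalar N hk] at hpow
  have h' : G2Data.tab.hT F (tc N (N * N)) * u * (G2Data.tab.hT F (tc N (N * N)))⁻¹ = u := by
    rw [hpow]; group
  have hmem := (good_G2.fixed_US closed_upSet _ hu).mp h'
  have hsub : ∀ s, s ∈ {s | s ∈ upSet ∧ G2Data.tab.chi (F := F) s (tc N (N * N)) = 1} →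
      s ∈ ({11} : Set ℕ) := by
    rintro s ⟨⟨hp, hne⟩, hc⟩
    have h6 : 6 ≤ s := by
      have := hp.2
      change 12 ≤ 2 * s at this
      omega
    have h12 : s < 12 := hp.1
    rw [chk_simple.1] at hne
    have key : ∀ a b : ℤ, (s, a, b) ∈ ([(6, -3, 2), (7, 2, -1), (8, -1, 1), (9, 1, 0),
        (10, 3, -1), (11, 0, 1)] : List (ℕ × ℤ × ℤ)) → a + 2 * b = 1 → False := by
      intro a b h e
      rw [chi_tc h, ← zpow_two, ← _root_.zpow_mul, ← _root_.zpow_add, e, zpow_one] at hc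
      exact hN1 (by rw [hc]; rfl)
    interval_cases s
    · exact (key (-3) 2 (by decide) (by norm_num)).elim
    · exact absurd rfl hne
    · exact (key (-1) 1 (by decide) (by norm_num)).elim
    · exact (key 1 0 (by decide) (by norm_num)).elim
    · exact (key 3 (-1) (by decide) (by norm_num)).elim
    · rfl
  obtain ⟨t, rfl⟩ := good_G2.mem_X (good_G2.US_mono hsub hmem)
  suffices ht : t = 0 by rw [ht, good_G2.full.x_zero]
  have e : Matrix.GeneralLinearGroup.det (ellGL N) = N := Units.ext (by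
    show (ellGL N : Matrix (Fin 2) (Fin 2) F).det = _
    rw [coe_ellGL, Matrix.det_fin_two_of]; ring)
  rw [ell, psi_apply, e, mul_assoc, ← mul_assoc (good_G2.full.x 11 t),
    ← hom_commute11, mul_assoc, mul_right_inj] at h
  have h2 : hd N * good_G2.full.x 11 t * (hd N)⁻¹ = good_G2.full.x 11 t := by rw [h]; group
  rw [hd, good_G2.full.hT_conj (by decide +kernel : (11 : ℕ) < chevG2.nroots),
    chi_tc (a := 0) (b := 1) (by decide), zpow_zero, one_mul, zpow_one] at h2
  have h3 : (N : F) * t - t = 0 := good_G2.x_eq_one (r := 11) (by decide +kernel) (by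
    rw [sub_eq_add_neg, ← good_G2.full.x_add, h2, good_G2.full.x_add, add_neg_cancel,
      good_G2.full.x_zero])
  have h4 : ((N : F) - 1) * t = 0 := by linear_combination h3
  exact (mul_eq_zero.mp h4).resolve_left (sub_ne_zero.mpr hN1)

omit hN1 in
theorem long_ell : ∃ θ : GL (Fin 2) F, psi θ = nLong F * ell N * (nLong F)⁻¹ ∧
    NS (θ : Matrix (Fin 2) (Fin 2) F) ∧ (θ : Matrix (Fin 2) (Fin 2) F).trace = (N : F)⁻¹ ∧
    (θ : Matrix (Fin 2) (Fin 2) F).det = (N : F)⁻¹ := by
  obtain ⟨c, hc⟩ := nLong_act (F := F)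
  set s : Fin chevG2.nroots := good_G2.full.simp' ia
  set η : F := (c (negF s) : F)
  have hη : η ≠ 0 := (c (negF s)).ne_zero
  have h1 : nLong F * good_G2.full.x (negR chevG2 (chevG2.simple (ia : ℕ))) 1 * (nLong F)⁻¹ =
      good_G2.full.x (chevG2.simple (ia : ℕ)) η := by
    have e := (hc (negF s)).2.2.2 1
    rw [mul_one, show negPerm chevG2 (negF s) = s from negF_negF s] at e
    exact e
  have h2 : nLong F * good_G2.full.x (chevG2.simple (ia : ℕ)) (-(N : F)) * (nLong F)⁻¹ =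
      good_G2.full.x (negR chevG2 (chevG2.simple (ia : ℕ))) (-(N : F) / η) := by
    have e := (hc s).2.2.2 (-(N : F))
    have ec : (c s : F) = η⁻¹ := by
      show (c s : F) = ((c (negF s) : Fˣ) : F)⁻¹
      rw [(hc s).2.1, Units.val_inv_eq_inv_val, inv_inv]
    rw [ec, show η⁻¹ * -(N : F) = -(N : F) / η by ring] at e
    exact e
  have h3 := good_G2.hT_conj_longest nLong_act nLong_mem_monomial (F := F) (tc 1 N)
  refine ⟨toGL (!![1, η; 0, 1] * !![1, 0; 0, (N : F)⁻¹] * !![1, 0; -(N : F) / η, 1])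
    (by rw [Matrix.det_mul, Matrix.det_mul]; simp [Matrix.det_fin_two_of, N.ne_zero]),
    ?_, ?_, ?_, ?_⟩
  · have eU : ∀ r : F, ∃ g : GL (Fin 2) F, (g : Matrix (Fin 2) (Fin 2) F) = !![1, r; 0, 1] ∧
        psi g = good_G2.full.x (chevG2.simple (ia : ℕ)) r := fun r =>
      ⟨toGL !![1, r; 0, 1] (by simp [Matrix.det_fin_two_of]), rfl, by
        rw [psi_ldu 0 r 1 1 (by rw [coe_toGL]; simp), good_G2.full.x_zero, one_mul,
          show tc (1 : Fˣ) 1 = (1 : Fin chevG2.rank → Fˣ) from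
            (tc_eq (1 : Fin chevG2.rank → Fˣ)).symm, map_one, one_mul]⟩
    have eL' : ∀ r : F, ∃ g : GL (Fin 2) F, (g : Matrix (Fin 2) (Fin 2) F) = !![1, 0; r, 1] ∧
        psi g = good_G2.full.x (negR chevG2 (chevG2.simple (ia : ℕ))) r := fun r =>
      ⟨toGL !![1, 0; r, 1] (by simp [Matrix.det_fin_two_of]), rfl, by
        rw [psi_ldu r 0 1 1 (by rw [coe_toGL]; simp), good_G2.full.x_zero, mul_one,
          show tc (1 : Fˣ) 1 = (1 : Fin chevG2.rank → Fˣ) from
            (tc_eq (1 : Fin chevG2.rank → Fˣ)).symm, map_one, mul_one]⟩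
    obtain ⟨gu, hgu, pu⟩ := eU η
    obtain ⟨gl, hgl, pl⟩ := eL' (-(N : F) / η)
    set gd := toGL !![1, 0; 0, (N : F)⁻¹] (by simp [Matrix.det_fin_two_of, N.ne_zero])
    have pd : psi gd = G2Data.tab.hT F (tc 1 N⁻¹) := by
      rw [psi_ldu 0 0 1 N⁻¹ (by rw [coe_toGL]; simp), good_G2.full.x_zero,
        good_G2.full.x_zero, one_mul, mul_one]
    rw [show toGL _ _ = gu * gd * gl from Units.ext (by
      rw [Matrix.GeneralLinearGroup.coe_mul, Matrix.GeneralLinearGroup.coe_mul, hgu, hgl]; rfl),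
      map_mul, map_mul, pu, pd, pl]
    have e0 : ell N = good_G2.full.x (negR chevG2 (chevG2.simple (ia : ℕ))) 1 *
        G2Data.tab.hT F (tc 1 N) * good_G2.full.x (chevG2.simple (ia : ℕ)) (-(N : F)) :=
      psi_ldu 1 (-(N : F)) 1 N (by rw [coe_ellGL]; simp)
    rw [e0, ← h1, ← h2, show tc (1 : Fˣ) N⁻¹ = (tc 1 N)⁻¹ from by
      rw [eq_inv_iff_mul_eq_one, tc_mul, one_mul, inv_mul_cancel]
      exact (tc_eq (1 : Fin chevG2.rank → Fˣ)).symm, ← h3]
    group
  · exact Or.inl (by simp [coe_toGL, Matrix.mul_apply, Fin.sum_univ_two, hη, N.ne_zero])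
  · rw [coe_toGL, Matrix.trace_fin_two]
    simp [Matrix.mul_apply, Fin.sum_univ_two]
    field_simp
    ring
  · rw [coe_toGL, Matrix.det_mul, Matrix.det_mul]
    simp [Matrix.det_fin_two_of]

omit hN1 [Fintype F] in
theorem gl_conj {M M' : GL (Fin 2) F} (h : NS (M : Matrix (Fin 2) (Fin 2) F))
    (h' : NS (M' : Matrix (Fin 2) (Fin 2) F))
    (ht : (M : Matrix (Fin 2) (Fin 2) F).trace = (M' : Matrix (Fin 2) (Fin 2) F).trace)
    (hd' : (M : Matrix (Fin 2) (Fin 2) F).det = (M' : Matrix (Fin 2) (Fin 2) F).det) :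
    ∃ P : GL (Fin 2) F, M = P * M' * P⁻¹ := by
  obtain ⟨P, hP, e⟩ := exists_conj_of_eq h h' ht hd'
  refine ⟨toGL P hP, eq_mul_inv_of_mul_eq (Units.ext ?_)⟩
  rw [Matrix.GeneralLinearGroup.coe_mul, Matrix.GeneralLinearGroup.coe_mul, coe_toGL]
  exact e

omit hN1 in
theorem ell_inv_conj : ∃ y ∈ chevG2.group F, (ell N)⁻¹ = y * ell N * y⁻¹ := by
  obtain ⟨θ, hθ, hns, htr, hdt⟩ := long_ell (F := F) (N := N)
  have hi : ((ellGL N)⁻¹ : GL (Fin 2) F).val = (N : F)⁻¹ • !![0, (N : F); -1, 1] := by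
    rw [Matrix.coe_units_inv, Matrix.inv_def, coe_ellGL, Matrix.adjugate_fin_two_of,
      Matrix.det_fin_two_of]
    simp
  obtain ⟨P, hP⟩ := gl_conj (M := (ellGL N)⁻¹) (M' := θ)
    (Or.inl (by rw [hi]; simp [N.ne_zero])) hns
    (by rw [hi, htr, Matrix.trace_smul]; simp [Matrix.trace_fin_two])
    (by
      rw [hi, hdt, Matrix.det_smul, Fintype.card_fin, Matrix.det_fin_two_of]
      field_simp
      ring)
  refine ⟨psi P * nLong F, mul_mem (psi_mem P) nLong_mem, ?_⟩
  rw [ell, ← map_inv, hP, map_mul, map_mul, hθ, map_inv, ell]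
  group

theorem cent_ell_negUp (hk : ((ellGL N : GL (Fin 2) F) ^ k : GL (Fin 2) F).val = (N : F) • 1)
    {w : GL chevG2.Idx F} (hw : w ∈ good_G2.US F (negUpSet chevG2 ia))
    (h : ell N * w = w * ell N) : w = 1 := by
  obtain ⟨θ, hθ, hns, htr, hdt⟩ := long_ell (F := F) (N := N)
  have hi : ((ellGL N)⁻¹ : GL (Fin 2) F).val = (N : F)⁻¹ • !![0, (N : F); -1, 1] := by
    rw [Matrix.coe_units_inv, Matrix.inv_def, coe_ellGL, Matrix.adjugate_fin_two_of,
      Matrix.det_fin_two_of]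
    simp
  obtain ⟨P, hP⟩ := gl_conj (M := θ) (M' := (ellGL N)⁻¹) hns
    (Or.inl (by rw [hi]; simp [N.ne_zero]))
    (by rw [hi, htr, Matrix.trace_smul]; simp [Matrix.trace_fin_two])
    (by
      rw [hi, hdt, Matrix.det_smul, Fintype.card_fin, Matrix.det_fin_two_of]
      field_simp
      ring)
  set w' := nLong F * w * (nLong F)⁻¹ with hw'
  have h1 : psi θ * w' = w' * psi θ := by
    rw [hθ, hw']
    calc nLong F * ell N * (nLong F)⁻¹ * (nLong F * w * (nLong F)⁻¹)
        = nLong F * (ell N * w) * (nLong F)⁻¹ := by group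
      _ = _ := by rw [h]; group
  set w'' := (psi P)⁻¹ * w' * psi P with hw''
  have h2 : w'' ∈ good_G2.US F upSet := by
    rw [hw'', show psi P = (psi P⁻¹)⁻¹ by rw [map_inv, inv_inv]]
    simpa using psi_conj_up P⁻¹ (long_conj_negUp hw)
  have h3 : (ell N)⁻¹ * w'' = w'' * (ell N)⁻¹ := by
    rw [hP, map_mul, map_mul, map_inv, map_inv, ← ell] at h1
    rw [hw'']
    calc (ell N)⁻¹ * ((psi P)⁻¹ * w' * psi P)
        = (psi P)⁻¹ * (psi P * (ell N)⁻¹ * (psi P)⁻¹ * w') * psi P := by group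
      _ = _ := by rw [h1]; group
  have h4 := cent_ell_up hN1 hk h2 (by
    calc ell N * w'' = ell N * (w'' * (ell N)⁻¹) * ell N := by group
      _ = _ := by rw [← h3]; group)
  calc w = (nLong F)⁻¹ * (psi P * w'' * (psi P)⁻¹) * nLong F := by rw [hw'', hw']; group
    _ = 1 := by rw [h4]; group

/-- A cell whose Levi part is a product of two elements of the classes is covered. -/
theorem cover_levi (hk : ((ellGL N : GL (Fin 2) F) ^ k : GL (Fin 2) F).val = (N : F) • 1)
    (hirr : ∀ r : F, r * r - r + (N : F) ≠ 0)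
    {g : GL chevG2.Idx F} {m : GL (Fin 2) F} {V a : GL chevG2.Idx F}
    (hV : V ∈ good_G2.US F (negUpSet chevG2 ia)) (ha : a ∈ good_G2.US F upSet)
    (hg : g = V * psi m * a) {A B : Matrix (Fin 2) (Fin 2) F} (hA : IsC (N : F) A)
    (hB : IsC (N : F) B) (hm : (m : Matrix (Fin 2) (Fin 2) F) = A * B) :
    Cover (ell N) g := by
  classical
  have hNS : NS (ellGL N : Matrix (Fin 2) (Fin 2) F) := Or.inr (Or.inl (by simp [coe_ellGL]))
  -- an element of the classes is conjugate to `ell` or its inverse by an element of the Levi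
  have key : ∀ {M : Matrix (Fin 2) (Fin 2) F}, IsC (N : F) M →
      ∃ (g' : GL (Fin 2) F) (P : GL (Fin 2) F), (g' : Matrix (Fin 2) (Fin 2) F) = M ∧
        ∃ z, (z = ell N ∨ z = (ell N)⁻¹) ∧ psi g' = psi P * z * (psi P)⁻¹ := by
    rintro M ⟨hns, h⟩
    have hd0 : M.det ≠ 0 := by rcases h with h | h <;> simp [h.2, N.ne_zero]
    refine ⟨toGL M hd0, ?_⟩
    rcases h with ⟨ht, hd'⟩ | ⟨ht, hd'⟩
    · obtain ⟨P, hP⟩ := gl_conj (M := toGL M hd0) (M' := ellGL N) hns hNS
        (by rw [coe_toGL, ht, coe_ellGL]; simp [Matrix.trace_fin_two])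
        (by rw [coe_toGL, hd', coe_ellGL, Matrix.det_fin_two_of]; ring)
      exact ⟨P, rfl, _, Or.inl rfl, by rw [hP, map_mul, map_mul, map_inv]; rfl⟩
    · have hi : ((ellGL N)⁻¹ : GL (Fin 2) F).val = (N : F)⁻¹ • !![0, (N : F); -1, 1] := by
        rw [Matrix.coe_units_inv, Matrix.inv_def, coe_ellGL, Matrix.adjugate_fin_two_of,
          Matrix.det_fin_two_of]
        simp
      obtain ⟨P, hP⟩ := gl_conj (M := toGL M hd0) (M' := (ellGL N)⁻¹) hns
        (Or.inl (by rw [hi]; simp [N.ne_zero]))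
        (by rw [coe_toGL, ht, hi, Matrix.trace_smul]; simp [Matrix.trace_fin_two])
        (by
          rw [coe_toGL, hd', hi, Matrix.det_smul, Fintype.card_fin, Matrix.det_fin_two_of]
          field_simp
          ring)
      exact ⟨P, rfl, _, Or.inr rfl, by rw [hP, map_mul, map_mul, map_inv, map_inv]; rfl⟩
  obtain ⟨y, hy, hye⟩ := ell_inv_conj (F := F) (N := N)
  have toX : ∀ {z : GL chevG2.Idx F}, (z = ell N ∨ z = (ell N)⁻¹) →
      ∃ y ∈ chevG2.group F, z = y * ell N * y⁻¹ := by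
    rintro z (rfl | rfl)
    · exact ⟨1, one_mem _, by group⟩
    · exact ⟨y, hy, hye⟩
  have fixU : ∀ {z : GL chevG2.Idx F}, (z = ell N ∨ z = (ell N)⁻¹) →
      (∀ u ∈ good_G2.US F upSet, z * u = u * z → u = 1) ∧
        (∀ u ∈ good_G2.US F (negUpSet chevG2 ia), z * u = u * z → u = 1) := by
    rintro z hz
    have e : ∀ u, z * u = u * z → ell N * u = u * ell N := by
      intro u hu
      rcases hz with rfl | rfl
      · exact hu
      · calc ell N * u = ell N * (u * (ell N)⁻¹) * ell N := by group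
          _ = _ := by rw [← hu]; group
    exact ⟨fun u hu h => cent_ell_up hN1 hk hu (e u h),
      fun u hu h => cent_ell_negUp hN1 hk hu (e u h)⟩
  obtain ⟨A', P, hA', z, hz, hAe⟩ := key hA
  obtain ⟨B', Q, hB', z', hz', hBe⟩ := key hB
  have hz2 : ∀ {z : GL chevG2.Idx F}, (z = ell N ∨ z = (ell N)⁻¹) → ∃ h, z = psi h := by
    rintro z (rfl | rfl)
    · exact ⟨_, rfl⟩
    · exact ⟨(ellGL N)⁻¹, by rw [map_inv]; rfl⟩
  obtain ⟨hzg, rfl⟩ := hz2 hz
  obtain ⟨hzg', rfl⟩ := hz2 hz'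
  have hV' : psi P⁻¹ * V * (psi P⁻¹)⁻¹ ∈ good_G2.US F (negUpSet chevG2 ia) :=
    psi_conj_negUp P⁻¹ hV
  obtain ⟨b, hb, hbe⟩ := exists_conj_mul_left (good_G2.US F (negUpSet chevG2 ia))
    (fun w hw => psi_conj_negUp hzg hw) (fixU hz).2 hV'
  have ha' : psi Q⁻¹ * a * (psi Q⁻¹)⁻¹ ∈ good_G2.US F upSet := psi_conj_up Q⁻¹ ha
  obtain ⟨b', hb', hbe'⟩ := exists_conj_mul_right (good_G2.US F upSet)
    (x := psi hzg') (fun w hw => by simpa using psi_conj_up hzg'⁻¹ hw) (fixU hz').1 ha'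
  obtain ⟨yz, hyz, ez⟩ := toX hz
  obtain ⟨yz', hyz', ez'⟩ := toX hz'
  refine ⟨psi P * b * yz, mul_mem (mul_mem (psi_mem P) (good_G2.US_le_group _ hb)) hyz,
    psi Q * b' * yz', mul_mem (mul_mem (psi_mem Q) (good_G2.US_le_group _ hb')) hyz', ?_⟩
  have e1 : V * psi A' = psi P * b * yz * ell N * (psi P * b * yz)⁻¹ := by
    rw [hAe]
    calc V * (psi P * psi hzg * (psi P)⁻¹)
        = psi P * (psi P⁻¹ * V * (psi P⁻¹)⁻¹ * psi hzg) * (psi P)⁻¹ := by rw [map_inv]; group
      _ = _ := by rw [hbe, ez]; group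
  have e2 : psi B' * a = psi Q * b' * yz' * ell N * (psi Q * b' * yz')⁻¹ := by
    rw [hBe]
    calc psi Q * psi hzg' * (psi Q)⁻¹ * a
        = psi Q * (psi hzg' * (psi Q⁻¹ * a * (psi Q⁻¹)⁻¹)) * (psi Q)⁻¹ := by rw [map_inv]; group
      _ = _ := by rw [hbe', ez']; group
  rw [hg, show m = A' * B' from Units.ext (by
    rw [Matrix.GeneralLinearGroup.coe_mul, hA', hB']; exact hm), map_mul, ← e1, ← e2]
  group

end Elliptic

end CfsgLib.OreG2
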