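import Cfsg.Agent.OreG2.Levi
import Mathlib.Algebra.Field.ZMod
import Mathlib.FieldTheory.Finite.Basic

/-!
`G₂(3)` and `G₂(5)`.
-/

set_option autoImplicit false
set_option linter.style.haveILetI false

namespace CfsgLib.OreG2

open Cfsg.Lie Matrix CfsgLib.Chev CfsgLib.Chev.Tab
open scoped MatrixGroups

variable {F : Type*} [Field F] [Fintype F]

/-- The hypotheses on the elliptic element. -/
structure EllData (N : Fˣ) (k : ℕ) : Prop where
  hN1 : (N : F) ≠ 1
  hpow : ((ellGL N : GL (Fin 2) F) ^ k : GL (Fin 2) F).val = (N : F) • 1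
  hirr : ∀ r : F, r * r - r + (N : F) ≠ 0
  hq : ∀ T : F, T ≠ 2 * N →
    ∃ p r : F, p ^ 2 + T * p * r + (N : F) ^ 2 * r ^ 2 - p - N * r + N = 0

theorem EllData.pow_eq_one {N : Fˣ} {k : ℕ} (E : EllData N k) :
    ell N ^ (k * (Fintype.card F - 1)) = 1 := by
  classical
  rw [pow_mul, ell, ← map_pow psi (ellGL N) k, psi_scalar N E.hpow, ← map_pow]
  rw [show tc N (N * N) ^ (Fintype.card F - 1) = (1 : Fin chevG2.rank → Fˣ) from funext fun i => by
    rw [Pi.pow_apply, Pi.one_apply, ← Nat.card_eq_fintype_card (α := F), ← Nat.card_units]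
    exact pow_card_eq_one', map_one]

/-- The matrix of the Levi part of a cell. -/
def cellMat (w q : F) (l d : Fˣ) : Matrix (Fin 2) (Fin 2) F :=
  !![(l : F), l * q; w * l, w * l * q + d / l]

theorem det_cellMat (w q : F) (l d : Fˣ) : (cellMat w q l d).det = d := by
  rw [cellMat, Matrix.det_fin_two_of]; field_simp; ring

/-- A cell whose Levi matrix is suitable is covered. -/
theorem EllData.cover_mat {N : Fˣ} {k : ℕ} (E : EllData N k) {g : GL chevG2.Idx F}
    {y V a : GL chevG2.Idx F} (hy : y ∈ chevG2.group F)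
    (hV : V ∈ good_G2.US F (negUpSet chevG2 ia)) (ha : a ∈ good_G2.US F upSet) (w q : F) (l d : Fˣ)
    (hg : y * g * y⁻¹ = V * good_G2.full.x (negR chevG2 (chevG2.simple (ia : ℕ))) w *
      G2Data.tab.hT F (tc l d) * (good_G2.full.x (chevG2.simple (ia : ℕ)) q * a))
    {c : F} (hc : c = 1 ∨ c = N ∨ c = (N : F) ^ 2) (hd : c ^ 2 * (d : F) = (N : F) ^ 2)
    (h : c • cellMat w q l d = (N : F) • 1 ∨
      (NS (cellMat w q l d) ∧ c * (cellMat w q l d).trace ≠ 2 * N)) :
    Cover (ell N) g := by
  refine Cover.of_conj hy ?_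
  obtain ⟨A, B, hA, hB, e⟩ := exists_isC_pair N.ne_zero E.hirr E.hq hc
    (by rw [det_cellMat]; exact hd) h
  refine cover_levi E.hN1 E.hpow E.hirr (m := toGL (cellMat w q l d)
    (by rw [det_cellMat]; exact d.ne_zero)) hV ha ?_ hA hB e
  rw [hg, psi_ldu w q l d rfl]
  group

/-- Splitting a cell along the short fundamental root. -/
theorem Cell.split {g : GL chevG2.Idx F} {c : Fin chevG2.rank → Fˣ} (h : Cell g c) :
    ∃ y ∈ chevG2.group F, ∃ V ∈ good_G2.US F (negUpSet chevG2 ia),
      ∃ a ∈ good_G2.US F upSet, ∃ w q : F,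
        y * g * y⁻¹ = V * good_G2.full.x (negR chevG2 (chevG2.simple (ia : ℕ))) w *
          G2Data.tab.hT F c * (good_G2.full.x (chevG2.simple (ia : ℕ)) q * a) := by
  obtain ⟨y, hy, v, hv, u, hu, e⟩ := h
  obtain ⟨V, hV, w, rfl⟩ := good_G2.neg_split nLong_act ia hv
  obtain ⟨q, a, ha, rfl⟩ := good_G2.pos_split_left ia hu
  exact ⟨y, hy, V, hV, a, ha, w, q, e⟩

theorem ellGL_pow (N : Fˣ) :
    ((ellGL N : GL (Fin 2) F) ^ 4 : GL (Fin 2) F).val =
      !![1 - 3 * (N : F) + N ^ 2, -(N : F) + 2 * N ^ 2; 1 - 2 * (N : F), -(N : F) + N ^ 2] ∧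
    ((ellGL N : GL (Fin 2) F) ^ 5 : GL (Fin 2) F).val =
      !![1 - 4 * (N : F) + 3 * N ^ 2, -(N : F) * (1 - 3 * N + N ^ 2);
        1 - 3 * (N : F) + N ^ 2, -(N : F) * (1 - 2 * N)] ∧
    ((ellGL N : GL (Fin 2) F) ^ 6 : GL (Fin 2) F).val =
      !![1 - 5 * (N : F) + 6 * N ^ 2 - N ^ 3, -(N : F) * (1 - 4 * N + 3 * N ^ 2);
        1 - 4 * (N : F) + 3 * N ^ 2, -(N : F) * (1 - 3 * N + N ^ 2)] := by
  have h4 : ((ellGL N : GL (Fin 2) F) ^ 4 : GL (Fin 2) F).val =
      !![1 - 3 * (N : F) + N ^ 2, -(N : F) + 2 * N ^ 2; 1 - 2 * (N : F), -(N : F) + N ^ 2] := by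
    rw [Units.val_pow_eq_pow_val, coe_ellGL]
    simp only [pow_succ, pow_zero, one_mul]
    ext i j
    fin_cases i <;> fin_cases j <;> simp [Matrix.mul_apply, Fin.sum_univ_two] <;> ring
  have h5 : ((ellGL N : GL (Fin 2) F) ^ 5 : GL (Fin 2) F).val =
      !![1 - 4 * (N : F) + 3 * N ^ 2, -(N : F) * (1 - 3 * N + N ^ 2);
        1 - 3 * (N : F) + N ^ 2, -(N : F) * (1 - 2 * N)] := by
    rw [pow_succ, Matrix.GeneralLinearGroup.coe_mul, h4, coe_ellGL]
    ext i j
    fin_cases i <;> fin_cases j <;> simp [Matrix.mul_apply, Fin.sum_univ_two] <;> ring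
  refine ⟨h4, h5, ?_⟩
  rw [pow_succ, Matrix.GeneralLinearGroup.coe_mul, h5, coe_ellGL]
  ext i j
  fin_cases i <;> fin_cases j <;> simp [Matrix.mul_apply, Fin.sum_univ_two] <;> ring

theorem three_zero : (3 : ZMod 3) = 0 := by decide

theorem five_zero : (5 : ZMod 5) = 0 := by decide

theorem three_irr : ∀ r : ZMod 3, r * r - r + 2 ≠ 0 := by decide

theorem five_irr : ∀ r : ZMod 5, r * r - r + 2 ≠ 0 := by decide

theorem three_conic : ∀ T : ZMod 3, T ≠ 2 * 2 →
    ∃ p r : ZMod 3, p ^ 2 + T * p * r + 2 ^ 2 * r ^ 2 - p - 2 * r + 2 = 0 := by decide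

theorem five_conic : ∀ T : ZMod 5, T ≠ 2 * 2 →
    ∃ p r : ZMod 5, p ^ 2 + T * p * r + 2 ^ 2 * r ^ 2 - p - 2 * r + 2 = 0 := by decide

theorem three_cases : ∀ r : ZMod 3, r = 0 ∨ r = 1 ∨ r = 2 := by decide

theorem three (h : Fintype.card F = 3) :
    ∃ x ∈ chevG2.group F, x ^ 8 = 1 ∧ ∀ g ∈ chevG2.group F, g ≠ 1 → Cover x g := by
  classical
  haveI : Fact (Nat.Prime 3) := ⟨Nat.prime_three⟩
  let e : ZMod 3 ≃+* F := ZMod.ringEquivOfPrime F Nat.prime_three h
  have h2 : (e 2 : F) = 2 := map_ofNat e 2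
  have h3 : (3 : F) = 0 := by rw [← map_ofNat e 3, three_zero, map_zero]
  have h20 : (2 : F) ≠ 0 := fun hh => one_ne_zero (α := F) (by linear_combination h3 - hh)
  set N : Fˣ := Units.mk0 (2 : F) h20 with hN
  have E : EllData N 4 := by
    refine ⟨fun hh => one_ne_zero (α := F) ?_, ?_, ?_, ?_⟩
    · rw [hN, Units.val_mk0] at hh; linear_combination hh
    · rw [(ellGL_pow N).1, hN, Units.val_mk0]
      ext i j
      fin_cases i <;> fin_cases j <;> simp <;>
        first
          | linear_combination (0 : F) * h3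
          | linear_combination (-1 : F) * h3
          | linear_combination h3
          | linear_combination (2 : F) * h3
          | linear_combination (-2 : F) * h3
    · intro r
      intro hh
      refine three_irr (e.symm r) (e.injective ?_)
      simpa [h2, hN] using hh
    · intro T hT
      obtain ⟨p, r, hpr⟩ := three_conic (e.symm T) fun hh => hT (by
        have := congrArg e hh
        simpa [h2, hN] using this)
      refine ⟨e p, e r, ?_⟩
      have := congrArg e hpr
      simpa [h2, hN] using this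
  refine ⟨ell N, psi_mem _, by simpa [h] using E.pow_eq_one, fun g hg _ => ?_⟩
  have hu : ∀ u : Fˣ, u = 1 ∨ u = N := by
    intro u
    rcases three_cases (e.symm (u : F)) with hh | hh | hh <;>
      have := congrArg e hh <;> simp at this
    · exact Or.inl this
    · exact Or.inr (Units.ext (by rw [hN, Units.val_mk0]; rw [this, h2]))
  have hNN : N * N = 1 := Units.ext (by
    rw [hN, Units.val_mul, Units.val_mk0, Units.val_one]; linear_combination h3)
  have h22 : 2 * (N : F) = 1 := by rw [hN, Units.val_mk0]; linear_combination h3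
  have good : ∀ l : Fˣ, Cell g (tc l 1) → Cover (ell N) g := by
    intro l hc
    obtain ⟨y, hy, V, hV, a, ha, w, q, hgy⟩ := hc.split
    by_cases hns : NS (cellMat w q l 1)
    · by_cases htr : (cellMat w q l 1).trace = 2 * N
      · refine E.cover_mat hy hV ha w q l 1 hgy (c := N) (Or.inr (Or.inl rfl)) ?_
          (Or.inr ⟨hns, ?_⟩)
        · rw [Units.val_one, mul_one]
        · rw [htr]
          intro hh
          exact E.hN1 (by
            rw [h22, mul_one] at hh
            exact hh)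
      · exact E.cover_mat hy hV ha w q l 1 hgy (c := 1) (Or.inl rfl)
          (by rw [one_pow, one_mul, Units.val_one, ← Units.val_one, ← hNN, Units.val_mul, sq])
          (Or.inr ⟨hns, by rwa [one_mul]⟩)
    · have e0 := not_NS hns
      have e00 : cellMat w q l 1 0 0 = (l : F) := rfl
      rw [e00] at e0
      rcases hu l with rfl | rfl
      · refine E.cover_mat hy hV ha w q 1 1 hgy (c := N) (Or.inr (Or.inl rfl))
          (by rw [Units.val_one, mul_one]) (Or.inl ?_)
        rw [e0, Units.val_one, one_smul]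
      · refine E.cover_mat hy hV ha w q N 1 hgy (c := 1) (Or.inl rfl)
          (by rw [one_pow, one_mul, Units.val_one, ← Units.val_one, ← hNN, Units.val_mul, sq])
          (Or.inl ?_)
        rw [e0, one_smul]
  obtain ⟨l, d, hc⟩ := exists_cell hg
  have hN1 : N ≠ 1 := fun hh => E.hN1 (by rw [hh, Units.val_one])
  rcases hu d with rfl | rfl
  · exact good l hc
  · have hNi : N⁻¹ = N := inv_eq_of_mul_eq_one_right hNN
    rcases hu l with rfl | rfl
    · refine good N (cell_move_b (by omega) (cell_move_a (by omega) hc ?_ N) ?_ 1)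
      · rw [one_pow, one_mul, hNi]; exact hN1
      · rw [pow_succ, sq, hNN, one_mul, hNi, mul_one]; exact hN1
    · refine good N (cell_move_b (by omega) hc ?_ 1)
      rw [pow_succ, sq, hNN, one_mul, hNi, mul_one]; exact hN1

theorem five (h : Fintype.card F = 5) :
    ∃ x ∈ chevG2.group F, x ^ 24 = 1 ∧ ∀ g ∈ chevG2.group F, g ≠ 1 → Cover x g := by
  classical
  haveI : Fact (Nat.Prime 5) := ⟨by norm_num⟩
  let e : ZMod 5 ≃+* F := ZMod.ringEquivOfPrime F (by norm_num) h
  have h2 : (e 2 : F) = 2 := map_ofNat e 2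
  have h5 : (5 : F) = 0 := by rw [← map_ofNat e 5, five_zero, map_zero]
  have h20 : (2 : F) ≠ 0 := fun hh => one_ne_zero (α := F) (by linear_combination h5 - 2 * hh)
  set N : Fˣ := Units.mk0 (2 : F) h20 with hN
  have E : EllData N 6 := by
    refine ⟨fun hh => one_ne_zero (α := F) ?_, ?_, ?_, ?_⟩
    · rw [hN, Units.val_mk0] at hh; linear_combination hh
    · rw [(ellGL_pow N).2.2, hN, Units.val_mk0]
      ext i j
      fin_cases i <;> fin_cases j <;> simp <;>
        first
          | linear_combination (0 : F) * h5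
          | linear_combination (-2 : F) * h5
          | linear_combination (2 : F) * h5
          | linear_combination h5
          | linear_combination (-1 : F) * h5
          | (right; linear_combination h5)
          | (right; linear_combination (-1 : F) * h5)
    · intro r
      intro hh
      refine five_irr (e.symm r) (e.injective ?_)
      simpa [h2, hN] using hh
    · intro T hT
      obtain ⟨p, r, hpr⟩ := five_conic (e.symm T) fun hh => hT (by
        have := congrArg e hh
        simpa [h2, hN] using this)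
      refine ⟨e p, e r, ?_⟩
      have := congrArg e hpr
      simpa [h2, hN] using this
  refine ⟨ell N, psi_mem _, by simpa [h] using E.pow_eq_one, fun g hg _ => ?_⟩
  set M : Fˣ := N * N with hM
  have hMv : (M : F) = 4 := by rw [hM, Units.val_mul, hN, Units.val_mk0]; norm_num
  have good : ∀ l : Fˣ, Cell g (tc l M) → Cover (ell N) g := by
    intro l hc
    obtain ⟨y, hy, V, hV, a, ha, w, q, hgy⟩ := hc.split
    have hd1 : (1 : F) ^ 2 * (M : F) = (N : F) ^ 2 := by
      rw [hMv, hN, Units.val_mk0]; norm_num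
    have hd4 : ((N : F) ^ 2) ^ 2 * (M : F) = (N : F) ^ 2 := by
      rw [hMv, hN, Units.val_mk0]; linear_combination (12 : F) * h5
    by_cases hns : NS (cellMat w q l M)
    · by_cases htr : (cellMat w q l M).trace = 2 * N
      · refine E.cover_mat hy hV ha w q l M hgy (c := (N : F) ^ 2) (Or.inr (Or.inr rfl)) hd4
          (Or.inr ⟨hns, ?_⟩)
        rw [htr, hN, Units.val_mk0]
        intro hh
        exact h20 (by linear_combination hh - (2 : F) * h5)
      · exact E.cover_mat hy hV ha w q l M hgy (c := 1) (Or.inl rfl) hd1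
          (Or.inr ⟨hns, by rwa [one_mul]⟩)
    · have e0 := not_NS hns
      have e00 : cellMat w q l M 0 0 = (l : F) := rfl
      rw [e00] at e0
      have hl : (l : F) ^ 2 = 4 := by
        rw [← hMv, ← det_cellMat w q l M, e0, Matrix.det_smul, Matrix.det_one, Fintype.card_fin,
          mul_one]
      rcases mul_eq_zero.mp (show ((l : F) - 2) * ((l : F) + 2) = 0 by linear_combination hl) with
        hh | hh
      · refine E.cover_mat hy hV ha w q l M hgy (c := 1) (Or.inl rfl) hd1 (Or.inl ?_)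
        rw [e0, one_smul, hN, Units.val_mk0, sub_eq_zero.mp hh]
      · refine E.cover_mat hy hV ha w q l M hgy (c := (N : F) ^ 2) (Or.inr (Or.inr rfl)) hd4
          (Or.inl ?_)
        rw [e0, smul_smul, hN, Units.val_mk0]
        congr 1
        linear_combination (4 : F) * hh - (2 : F) * h5
  have hu : ∀ d : Fˣ, ∃ l : Fˣ, l ^ 3 ≠ d ^ 2 := by
    intro d
    by_cases hd : (1 : Fˣ) = d ^ 2
    · refine ⟨N, fun hh => one_ne_zero (α := F) ?_⟩
      rw [← hd] at hh
      have := congrArg Units.val hh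
      rw [Units.val_pow_eq_pow_val, hN, Units.val_mk0, Units.val_one] at this
      linear_combination (-2 : F) * this + (3 : F) * h5
    · exact ⟨1, by rwa [one_pow]⟩
  have hgo : ∀ l d : Fˣ, Cell g (tc l d) → (l ^ 3)⁻¹ * d ^ 2 ≠ 1 → Cover (ell N) g :=
    fun l d hc hb => good l (cell_move_b (by omega) hc hb M)
  obtain ⟨l, d, hc⟩ := exists_cell hg
  by_cases hb : (l ^ 3)⁻¹ * d ^ 2 = 1
  · obtain ⟨l', hl'⟩ := hu d
    have hb' : (l' ^ 3)⁻¹ * d ^ 2 ≠ 1 := fun hh => hl' (inv_mul_eq_one.mp hh)
    by_cases ha : l ^ 2 * d⁻¹ = 1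
    · have hd : d = l ^ 2 := (mul_inv_eq_one.mp ha).symm
      have hl : l = 1 := by
        rw [hd, ← pow_mul] at hb
        exact mul_left_cancel (a := l ^ 3) (by rw [← pow_succ, mul_one]; exact (inv_mul_eq_one.mp hb).symm)
      subst hl
      rw [one_pow] at hd
      subst hd
      obtain ⟨y, hy, V, hV, a, haa, w, q, hgy⟩ := hc.split
      by_cases hwq : w ≠ 0 ∨ q ≠ 0
      · obtain ⟨y', hy', V', hV', a', ha', w', q', e'⟩ :=
          good_G2.move (by omega) nLong_act ia hV haa w q (tc 1 1) (Or.inr hwq) l'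
        refine hgo l' 1 ⟨y' * y, mul_mem hy' hy, _, mul_mem (good_G2.negUp_le_neg ia hV')
          (good_G2.x_mem_neg (Cert.negR_lt (good_G2.full.simple_lt ia.isLt))
            (fun hh => good_G2.negR_pos (good_G2.pos_simp ia) hh.2) w'),
          _, mul_mem (good_G2.x_mem_pos (r := chevG2.simple (ia : ℕ)) (good_G2.pos_simp ia) q')
            (good_G2.Up_le_pos ia ha'), ?_⟩ hb'
        rw [single_ia, tc_mul, mul_one, one_mul] at e'
        rw [← e', ← hgy]
        group
      · simp only [not_or, not_ne_iff] at hwq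
        obtain ⟨rfl, rfl⟩ := hwq
        refine E.cover_mat hy hV haa 0 0 1 1 hgy (c := N) (Or.inr (Or.inl rfl))
          (by rw [Units.val_one, mul_one]) (Or.inl ?_)
        rw [cellMat]
        ext i j
        fin_cases i <;> fin_cases j <;> simp
    · exact hgo l' d (cell_move_a (by omega) hc ha l') hb'
  · exact hgo l d hc hb

end CfsgLib.OreG2
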